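import Groth.Agent.Lib.MultAvg.HomAvg
import Groth.Agent.Lib.SmoothLift.Formal
import Mathlib.AlgebraicGeometry.Limits

/-!
# Averaging over a finite group of invertible order
-/

set_option autoImplicit false
set_option linter.style.haveILetI false
set_option linter.unusedSectionVars false
set_option backward.isDefEq.respectTransparency false

universe u

open CategoryTheory CategoryTheory.Limits AlgebraicGeometry MonoidalCategory CartesianMonoidalCategory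
open CategoryTheory.MonObj CategoryTheory.GrpObj
open Groth.Agent.Lib Groth.Agent.H87.HomDS

namespace Groth.Agent.H13.FinAvg

variable {S : Scheme.{u}} {A : CommRingCat.{u}} {t : Spec A ⟶ S} {J : Ideal A} {Γ : Type u} [Fintype Γ]

variable (A Γ) in
/-- The functions on the index set. -/
abbrev Fn : CommRingCat.{u} := CommRingCat.of (Γ → A)

variable (A Γ) in
/-- Constant functions. -/
abbrev diag : A ⟶ Fn A Γ := CommRingCat.ofHom (RingHom.pi fun _ => RingHom.id A)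

/-- Evaluation. -/
abbrev ev (γ : Γ) : Fn A Γ ⟶ A := CommRingCat.ofHom (Pi.evalRingHom (fun _ : Γ => (A : Type u)) γ)

/-- The mean. -/
noncomputable def mean (hn : IsUnit (Fintype.card Γ : A)) : MultAvg.Fnl (diag A Γ) where
  toFun :=
    { toFun := fun c => (↑hn.unit⁻¹ : A) * ∑ γ, c γ
      map_zero' := by simp [show ∀ γ : Γ, (0 : Γ → A) γ = 0 from fun _ => rfl]
      map_add' := fun c d => by
        show (↑hn.unit⁻¹ : A) * ∑ γ, (c γ + d γ) = _
        rw [Finset.sum_add_distrib, mul_add] }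
  lin a c := by
    show (↑hn.unit⁻¹ : A) * ∑ γ, (a * c γ) = a * ((↑hn.unit⁻¹ : A) * ∑ γ, c γ)
    rw [← Finset.mul_sum, mul_left_comm]
  one := by
    show (↑hn.unit⁻¹ : A) * ∑ _γ : Γ, (1 : A) = 1
    rw [Finset.sum_const, Finset.card_univ, nsmul_one]
    exact hn.val_inv_mul

section Glue

variable {X : Scheme.{u}}

/-- A family of points as one point. -/
noncomputable def glue (y : Γ → (Spec A ⟶ X)) : Spec (Fn A Γ) ⟶ X :=
  inv (sigmaSpec fun _ : Γ => A) ≫ Sigma.desc y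

theorem ev_glue (y : Γ → (Spec A ⟶ X)) (γ : Γ) : Spec.map (ev γ) ≫ glue y = y γ := by
  have h : Spec.map (ev γ) = Sigma.ι (fun _ : Γ => Spec A) γ ≫ sigmaSpec (fun _ : Γ => A) :=
    (ι_sigmaSpec (fun _ : Γ => A) γ).symm
  rw [h, glue, Category.assoc, IsIso.hom_inv_id_assoc]
  exact Sigma.ι_desc y γ

theorem fn_ext {a b : Spec (Fn A Γ) ⟶ X} (h : ∀ γ, Spec.map (ev γ) ≫ a = Spec.map (ev γ) ≫ b) : a = b := by
  rw [← cancel_epi (sigmaSpec fun _ : Γ => A)]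
  refine Sigma.hom_ext _ _ fun γ => ?_
  rw [← Category.assoc, ← Category.assoc, ι_sigmaSpec]
  exact h γ

variable (A Γ J) in
/-- Functions modulo `J`. -/
noncomputable def red : CommRingCat.of (Fn A Γ ⧸ J.map (diag A Γ).hom) ⟶ Fn (CommRingCat.of (A ⧸ J)) Γ :=
  CommRingCat.ofHom (Ideal.Quotient.lift _ (RingHom.pi fun γ => (Ideal.Quotient.mk J).comp (ev γ).hom) (by
    intro c hc
    have hle : J.map (diag A Γ).hom ≤
        RingHom.ker (RingHom.pi fun γ => (Ideal.Quotient.mk J).comp (ev γ).hom : Fn A Γ →+* (Γ → A ⧸ J)) :=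
      Ideal.map_le_iff_le_comap.2 fun a ha => funext fun γ => Ideal.Quotient.eq_zero_iff_mem.2 ha
    exact hle hc))

instance isIso_red : IsIso (red A J Γ) := by
  classical
  refine (ConcreteCategory.isIso_iff_bijective _).2 ⟨?_, fun c => ?_⟩
  · refine (injective_iff_map_eq_zero _).2 fun x hx => ?_
    obtain ⟨c, rfl⟩ := Ideal.Quotient.mk_surjective x
    refine Ideal.Quotient.eq_zero_iff_mem.2 ?_
    have hc : ∀ γ, c γ ∈ J := fun γ => Ideal.Quotient.eq_zero_iff_mem.1 (congrFun hx γ)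
    have e : c = ∑ γ, (diag A Γ).hom (c γ) * Pi.single γ 1 := by
      funext γ
      rw [Finset.sum_apply, Finset.sum_eq_single γ (fun δ _ hd => by rw [Pi.mul_apply, Pi.single_eq_of_ne hd.symm, mul_zero])
        (fun h => absurd (Finset.mem_univ γ) h), Pi.mul_apply, Pi.single_eq_same, _root_.mul_one]
      rfl
    rw [e]
    exact Ideal.sum_mem _ fun γ _ => Ideal.mul_mem_right _ _ (Ideal.mem_map_of_mem _ (hc γ))
  · choose d hd using fun γ => Ideal.Quotient.mk_surjective (c γ)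
    exact ⟨Ideal.Quotient.mk _ d, funext hd⟩

theorem red_ext {a b : Spec (CommRingCat.of (Fn A Γ ⧸ J.map (diag A Γ).hom)) ⟶ X}
    (h : ∀ γ : Γ, Spec.map (red A J Γ ≫ ev γ) ≫ a = Spec.map (red A J Γ ≫ ev γ) ≫ b) : a = b := by
  rw [← cancel_epi (Spec.map (red A J Γ))]
  refine fn_ext fun γ => ?_
  simpa only [Spec.map_comp, Category.assoc] using h γ

end Glue

variable {X : Over S} {hn : IsUnit (Fintype.card Γ : A)} {hJ : J ^ 2 = ⊥}

variable (t J) in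
/-- Reduction of points. -/
noncomputable abbrev m₀ : test t (MultAvg.mkA J) ⟶ test t (𝟙 A) :=
  MultAvg.tmap t (φ := 𝟙 A) (MultAvg.mkA J) (Category.id_comp _)

/-- `g` is the mean of the family `y`. -/
def Avg (hn : IsUnit (Fintype.card Γ : A)) (hJ : J ^ 2 = ⊥) (x₀ : test t (MultAvg.mkA J) ⟶ X)
    (y : Γ → (test t (𝟙 A) ⟶ X)) (g : test t (𝟙 A) ⟶ X) : Prop :=
  MultAvg.IsAvg (mean hn) hJ (glue fun γ => (y γ).left) x₀.left g.left

theorem exists_avg (hn : IsUnit (Fintype.card Γ : A)) (hJ : J ^ 2 = ⊥) (x₀ : test t (MultAvg.mkA J) ⟶ X)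
    (y : Γ → (test t (𝟙 A) ⟶ X)) (h : ∀ γ, m₀ t J ≫ y γ = x₀) :
    ∃ g, Avg hn hJ x₀ y g ∧ m₀ t J ≫ g = x₀ := by
  have hc : Spec.map (MultAvg.mkC (diag A Γ) J) ≫ glue (fun γ => (y γ).left) =
      Spec.map (MultAvg.inc₀ (diag A Γ) J) ≫ x₀.left := by
    refine red_ext fun γ => ?_
    have e1 : MultAvg.mkC (diag A Γ) J ≫ red A J Γ ≫ ev γ = ev γ ≫ MultAvg.mkA J := rfl
    have e2 : MultAvg.inc₀ (diag A Γ) J ≫ red A J Γ ≫ ev γ = 𝟙 _ := by
      refine CommRingCat.hom_ext (Ideal.Quotient.ringHom_ext (RingHom.ext fun a => ?_))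
      rfl
    rw [← Spec.map_comp_assoc, ← Spec.map_comp_assoc, e1, e2, Spec.map_comp_assoc, ev_glue, Spec.map_id,
      Category.id_comp]
    exact congrArg CommaMorphism.left (h γ)
  obtain ⟨v, hv⟩ := MultAvg.exists_isAvg (mean hn) hJ _ _ hc
  have hvw : v ≫ X.hom = t := by
    have h1 := hv.comp X.hom
    have e1 : glue (fun γ => (y γ).left) ≫ X.hom = Spec.map (diag A Γ) ≫ t := fn_ext fun γ => by
      rw [reassoc_of% (ev_glue (fun γ => (y γ).left) γ), Over.w (y γ), ← Spec.map_comp_assoc]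
      rfl
    rw [e1, Over.w x₀] at h1
    exact h1.unique (MultAvg.isAvg_const _ hJ t)
  exact ⟨Over.homMk v (by simpa using hvw), hv, Over.OverMorphism.ext hv.mod⟩

theorem Avg.unique {x₀ : test t (MultAvg.mkA J) ⟶ X} {y : Γ → (test t (𝟙 A) ⟶ X)} {g g' : test t (𝟙 A) ⟶ X}
    (h : Avg hn hJ x₀ y g) (h' : Avg hn hJ x₀ y g') : g = g' :=
  Over.OverMorphism.ext (MultAvg.IsAvg.unique h h')

theorem avg_const (g : test t (𝟙 A) ⟶ X) : Avg hn hJ (m₀ t J ≫ g) (fun _ : Γ => g) g := by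
  have e : glue (fun _ : Γ => g.left) = Spec.map (diag A Γ) ≫ g.left := fn_ext fun γ => by
    rw [ev_glue, ← Spec.map_comp_assoc]
    rw [show diag A Γ ≫ ev γ = 𝟙 A from rfl, Spec.map_id]
    exact (Category.id_comp _).symm
  unfold Avg
  rw [e]
  exact MultAvg.isAvg_const _ hJ g.left

theorem Avg.reindex {x₀ : test t (MultAvg.mkA J) ⟶ X} {y : Γ → (test t (𝟙 A) ⟶ X)} {g : test t (𝟙 A) ⟶ X}
    (h : Avg hn hJ x₀ y g) (e : Γ ≃ Γ) : Avg hn hJ x₀ (fun γ => y (e γ)) g := by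
  let ψ : Fn A Γ ⟶ Fn A Γ :=
    CommRingCat.ofHom (RingHom.pi fun γ => Pi.evalRingHom (fun _ : Γ => (A : Type u)) (e γ))
  have h1 := MultAvg.IsAvg.map h (mean hn) hJ (𝟙 A) ψ rfl le_rfl (fun c => by
    show (↑hn.unit⁻¹ : A) * ∑ γ, c (e γ) = (↑hn.unit⁻¹ : A) * ∑ γ, c γ
    rw [e.sum_comp (fun γ => c γ)])
  have e1 : Spec.map ψ ≫ glue (fun γ => (y γ).left) = glue (fun γ => (y (e γ)).left) := fn_ext fun γ => by
    rw [← Spec.map_comp_assoc, ev_glue]
    exact ev_glue (fun γ => (y γ).left) (e γ)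
  have e2 : CommRingCat.ofHom (Ideal.quotientMap J (𝟙 A : A ⟶ A).hom (le_rfl : J ≤ J.comap (RingHom.id A))) =
      𝟙 (CommRingCat.of (A ⧸ J)) :=
    CommRingCat.hom_ext (Ideal.Quotient.ringHom_ext (RingHom.ext fun a => rfl))
  rw [e1, e2, Spec.map_id, Category.id_comp, Spec.map_id, Category.id_comp] at h1
  exact h1

section Group

variable {K : Over S} [GrpObj K]

theorem Avg.mul {a₀ b₀ : test t (MultAvg.mkA J) ⟶ K} {a b : Γ → (test t (𝟙 A) ⟶ K)}
    {xa xb : test t (𝟙 A) ⟶ K} (ha : Avg hn hJ a₀ a xa) (hb : Avg hn hJ b₀ b xb) :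
    Avg hn hJ (a₀ * b₀) (fun γ => a γ * b γ) (xa * xb) := by
  have hw : ∀ f : Γ → (test t (𝟙 A) ⟶ K),
      glue (fun γ => (f γ).left) ≫ K.hom = Spec.map (𝟙 A ≫ diag A Γ) ≫ t := fun f => fn_ext fun γ => by
    rw [reassoc_of% (ev_glue (fun γ => (f γ).left) γ), Over.w (f γ), ← Spec.map_comp_assoc]
    rfl
  let G : (Γ → (test t (𝟙 A) ⟶ K)) → (test t (𝟙 A ≫ diag A Γ) ⟶ K) := fun f =>
    Over.homMk (glue fun γ => (f γ).left) (hw f)
  let e : Γ → (test t (𝟙 A) ⟶ test t (𝟙 A ≫ diag A Γ)) := fun γ => MultAvg.tmap t (ev γ) rfl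
  have heG : ∀ f γ, e γ ≫ G f = f γ := fun f γ =>
    Over.OverMorphism.ext (ev_glue (fun γ => (f γ).left) γ)
  have h1 : G a * G b = G (fun γ => a γ * b γ) := by
    apply Over.OverMorphism.ext
    refine fn_ext fun γ => ?_
    have h2 : e γ ≫ (G a * G b) = a γ * b γ := by rw [MonObj.comp_mul, heG, heG]
    exact (congrArg CommaMorphism.left h2).trans (ev_glue (fun γ => (a γ * b γ).left) γ).symm
  have h2 := MultAvg.IsAvg.mul (a := G a) (b := G b) (a₀ := (a₀ : test t (𝟙 A ≫ MultAvg.mkA J) ⟶ K))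
    (b₀ := (b₀ : test t (𝟙 A ≫ MultAvg.mkA J) ⟶ K)) ha hb
  rw [h1] at h2
  exact h2

variable [Group Γ] [Smooth K.hom]

theorem exists_lift (hJ : J ^ 2 = ⊥) (g₀ : test t (MultAvg.mkA J) ⟶ K) :
    ∃ g, m₀ t J ≫ g = g₀ := by
  obtain ⟨l, hl, hl'⟩ := SmoothLift.Formal.isFormallySmoothHom_of_smooth K.hom A J hJ g₀.left t (Over.w g₀).symm
  exact ⟨Over.homMk l (by simpa using hl'), Over.OverMorphism.ext hl⟩

/-- A finite group of points modulo a square-zero ideal lifts. -/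
theorem exists_hom_lift (hn : IsUnit (Fintype.card Γ : A)) (hJ : J ^ 2 = ⊥)
    (v₀ : Γ →* (test t (MultAvg.mkA J) ⟶ K)) :
    ∃ v : Γ →* (test t (𝟙 A) ⟶ K), ∀ γ, m₀ t J ≫ v γ = v₀ γ := by
  choose f hf using fun γ => exists_lift (K := K) hJ (v₀ γ)
  have hy : ∀ x γ, m₀ t J ≫ (f (x * γ) * (f γ)⁻¹) = v₀ x := fun x γ => by
    rw [MonObj.comp_mul, GrpObj.comp_inv, hf, hf, map_mul, mul_inv_cancel_right]
  choose v hv hv' using fun x => exists_avg hn hJ (v₀ x) (fun γ => f (x * γ) * (f γ)⁻¹) (hy x)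
  refine ⟨MonoidHom.mk' v fun x z => ?_, hv'⟩
  have h1 := ((hv x).reindex (Equiv.mulLeft z)).mul (hv z)
  rw [← map_mul] at h1
  have e : (fun γ => (fun γ => f (x * γ) * (f γ)⁻¹) ((Equiv.mulLeft z) γ) * (f (z * γ) * (f γ)⁻¹)) =
      fun γ => f (x * z * γ) * (f γ)⁻¹ := funext fun γ => by
    simp only [Equiv.coe_mulLeft, ← _root_.mul_assoc, inv_mul_cancel_right]
  rw [e] at h1
  exact (hv (x * z)).unique h1

/-- An element conjugating two finite groups of points modulo a square-zero ideal lifts to one conjugating them. -/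
theorem exists_conj_lift (hn : IsUnit (Fintype.card Γ : A)) (hJ : J ^ 2 = ⊥)
    (u v : Γ →* (test t (𝟙 A) ⟶ K)) (g₀ : test t (MultAvg.mkA J) ⟶ K)
    (h : ∀ γ, g₀ * (m₀ t J ≫ u γ) * g₀⁻¹ = m₀ t J ≫ v γ) :
    ∃ g, m₀ t J ≫ g = g₀ ∧ ∀ γ, g * u γ * g⁻¹ = v γ := by
  obtain ⟨ξ, hξ⟩ := exists_lift (K := K) hJ g₀
  have hy : ∀ γ, m₀ t J ≫ (v γ * ξ * (u γ)⁻¹) = g₀ := fun γ => by
    rw [MonObj.comp_mul, MonObj.comp_mul, GrpObj.comp_inv, hξ, ← h γ, inv_mul_cancel_right,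
      mul_inv_cancel_right]
  obtain ⟨g, hg, hg'⟩ := exists_avg hn hJ g₀ _ hy
  refine ⟨g, hg', fun δ => ?_⟩
  have h1 := ((avg_const (hn := hn) (hJ := hJ) (v δ)).mul hg).mul (avg_const (hn := hn) (hJ := hJ) ((u δ)⁻¹))
  have e0 : (m₀ t J ≫ v δ) * g₀ * (m₀ t J ≫ (u δ)⁻¹) = g₀ := by
    rw [GrpObj.comp_inv, ← h δ, inv_mul_cancel_right, mul_inv_cancel_right]
  have e : (fun γ => v δ * (v γ * ξ * (u γ)⁻¹) * (u δ)⁻¹) =
      fun γ => (fun γ => v γ * ξ * (u γ)⁻¹) ((Equiv.mulLeft δ) γ) := funext fun γ => by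
    simp only [Equiv.coe_mulLeft, map_mul, _root_.mul_inv_rev, ← _root_.mul_assoc]
  rw [e0, e] at h1
  have h2 := h1.unique (hg.reindex (Equiv.mulLeft δ))
  calc g * u δ * g⁻¹ = v δ * g * (u δ)⁻¹ * u δ * g⁻¹ := by rw [h2]
    _ = v δ := by group

end Group

end Groth.Agent.H13.FinAvg
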