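import Groth.Agent.H13.FinAvg.Main
import Groth.Agent.Lib.DiagGL.Points
import Groth.Agent.S4098

/-!
# Cartan subgroups: conjugacy and existence, étale locally
-/

set_option autoImplicit false
set_option linter.style.haveILetI false
set_option linter.unusedSectionVars false
set_option backward.isDefEq.respectTransparency false
set_option synthInstance.maxHeartbeats 200000
set_option maxHeartbeats 1000000

universe u

open CategoryTheory CategoryTheory.Limits AlgebraicGeometry MonoidalCategory CartesianMonoidalCategory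
open CategoryTheory.MonObj CategoryTheory.GrpObj
open Groth.Agent.Lib Groth.Agent.H87 Groth.Agent.H87.HomDS
open Groth.Agent.Lib.RedPts
open Groth.Agent.H13.FinAvg Groth.Agent.H13.FinAvg.Transporter

namespace Groth.Agent.H13.FinAvg

section Field

variable {K : Type u} [Field K] [IsAlgClosed K] {G C₁ C₂ : Over (Spec (CommRingCat.of K))} [GrpObj G] [GrpObj C₁]
  [GrpObj C₂]

/-- Cartan subgroups are not contained in one another. -/
theorem isIso_of_cartanOver_le [LocallyOfFiniteType G.hom] {c₁ : C₁ ⟶ G} {c₂ : C₂ ⟶ G}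
    (h₁ : SGA3x.IsCartanOver K c₁) (h₂ : SGA3x.IsCartanOver K c₂) (φ : C₁ ⟶ C₂) (hφ : φ ≫ c₂ = c₁) : IsIso φ := by
  obtain ⟨hm, hmono, U, _, u, hu, hcu⟩ := h₁
  haveI := hm
  haveI := hmono
  haveI := h₂.1
  haveI := h₂.2.1
  haveI := hu.1
  haveI := hu.2.1
  obtain ⟨a, ha⟩ := (hcu.2.2 _ u).2 fun X' x h => by
    rw [← MonObj.mul_comp, ← MonObj.mul_comp, SmWeil.MaxTorusBC.commute_of_isTorus hu.2.2.1]
  have hau : (a ≫ φ) ≫ c₂ = u := by rw [Category.assoc, hφ, ha]
  haveI : IsMonHom ((a ≫ φ) ≫ c₂) := hau.symm ▸ inferInstance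
  haveI : IsMonHom (a ≫ φ) := SmWeil.MaxTorusBC.isMonHom_of_mono_comp (a ≫ φ) c₂
  have h₂' := SmWeil.CartanTorus.isCentralizerOf_field h₂ hu (a ≫ φ) hau
  obtain ⟨r, hr⟩ := (hcu.2.2 _ c₂).2 ((h₂'.2.2 _ c₂).1 ⟨𝟙 _, Category.id_comp _⟩)
  haveI : Mono φ := mono_of_mono_fac hφ
  exact SmWeil.CartanTorus.isIso_of_split φ r
    (by rw [← cancel_mono c₂, Category.assoc, hφ, hr, Category.id_comp])

/-- A Cartan subgroup over an algebraically closed field is a Cartan subgroup over its spectrum. -/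
theorem isCartan_of_over [Smooth G.hom] [IsSeparated G.hom] [Smooth C₁.hom] {c₁ : C₁ ⟶ G}
    (h₁ : SGA3x.IsCartanOver K c₁) : SGA3x.IsCartan c₁ := by
  obtain ⟨hm, hmono, U, _, u, hu, hcu⟩ := h₁
  haveI := hm
  haveI := hmono
  exact ⟨hm, hmono, inferInstance, fun s => ⟨inferInstance, inferInstance, _, inferInstance, _,
    SmWeil.MaxTorusBC.isMaximalTorus_bc u hu _, H1.Classical.FieldDescent.isCentralizerOf_bc _ hcu⟩⟩

end Field

variable {S : Scheme.{u}}

/-- Cartan subgroups contained in one another are equal. -/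
theorem isIso_of_cartan_le {G C₁ C₂ : Over S} [GrpObj G] [GrpObj C₁] [GrpObj C₂] [Smooth G.hom] {c₁ : C₁ ⟶ G}
    {c₂ : C₂ ⟶ G} (h₁ : SGA3x.IsCartan c₁) (h₂ : SGA3x.IsCartan c₂) (φ : C₁ ⟶ C₂) (hφ : φ ≫ c₂ = c₁) : IsIso φ := by
  haveI := h₁.2.1
  haveI := h₁.2.2.1
  haveI := h₂.2.2.1
  haveI : Mono φ := mono_of_mono_fac hφ
  refine SmWeil.CartanAux.isIso_of_geom_fibres φ fun s => ?_
  haveI : LocallyOfFiniteType (Red.bc (Red.geomPt s) G).hom :=
    MorphismProperty.pullback_snd (P := @LocallyOfFiniteType) _ _ inferInstance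
  exact isIso_of_cartanOver_le (h₁.2.2.2 s) (h₂.2.2.2 s) _ (by rw [← Functor.map_comp, hφ])

/-- Conjugates of Cartan subgroups are Cartan subgroups. -/
theorem isCartan_conj {G C : Over S} [GrpObj G] [GrpObj C] {c : C ⟶ G} (hc : SGA3x.IsCartan c)
    (g : 𝟙_ (Over S) ⟶ G) : SGA3x.IsCartan (c ≫ (SmWeil.CartanTorus.conjIso g).hom) := by
  haveI := hc.1
  haveI := hc.2.1
  haveI := SmWeil.CartanTorus.isMonHom_conjIso g
  refine ⟨inferInstance, mono_comp _ _, hc.2.2.1, fun s => ?_⟩
  haveI : IsMonHom ((Over.pullback (Red.geomPt s)).mapIso (SmWeil.CartanTorus.conjIso g)).hom :=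
    inferInstanceAs (IsMonHom ((Over.pullback (Red.geomPt s)).map (SmWeil.CartanTorus.conjIso g).hom))
  exact SmWeil.CartanAux.isCartanOver_congr ((Over.pullback (Red.geomPt s)).mapIso (SmWeil.CartanTorus.conjIso g))
    (Iso.refl _) inferInstance (inferInstanceAs (IsMonHom (𝟙 _)))
    (by simp [Functor.map_comp]) (hc.2.2.2 s)

section Trans

variable {G H C M : Over S} [GrpObj G] [GrpObj H] [GrpObj C]

/-- A point of the transporter gives a conjugation into the subgroup. -/
theorem exists_conj_hom {i : H ⟶ G} [IsMonHom i] [Mono i] {c : C ⟶ G} [IsMonHom c] [Mono c] {m : M ⟶ G}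
    (hM : ∀ {X : Over S} (g : X ⟶ G), (∃ z, z ≫ m = g) ↔ Into i c g) {S' : Scheme.{u}} {f : S' ⟶ S}
    (z : Over.mk f ⟶ M) :
    ∃ (g : 𝟙_ (Over S') ⟶ Red.bc f G) (φ : Red.bc f C ⟶ Red.bc f H), IsMonHom φ ∧ Mono φ ∧
      φ ≫ (Over.pullback f).map i = (Over.pullback f).map c ≫ (SmWeil.CartanTorus.conjIso g).hom := by
  let g := SmWeil.ptUp f (z ≫ m)
  obtain ⟨κ, hκ⟩ := (hM (z ≫ m)).1 ⟨z, rfl⟩ _ ((Over.map f).map (toUnit (Red.bc f C)) ≫ (SmWeil.unitIso f).hom)
    (BC.down f (𝟙 _))
  have he : BC.up f κ ≫ (Over.pullback f).map i =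
      (Over.pullback f).map c ≫ (SmWeil.CartanTorus.conjIso g).hom := by
    refine BC.down_injective ?_
    rw [SmWeil.CartanTorus.comp_conjIso, BC.down_map, BC.down_up, BC.down_mul, BC.down_mul, BC.down_inv,
      SmWeil.down_toUnit_ptUp, ← Category.id_comp ((Over.pullback f).map c), BC.down_map, ← hκ]
    simp only [Category.assoc]
  haveI := SmWeil.CartanTorus.isMonHom_conjIso g
  haveI : Mono ((Over.pullback f).map c ≫ (SmWeil.CartanTorus.conjIso g).hom) := mono_comp _ _
  haveI : IsMonHom (BC.up f κ ≫ (Over.pullback f).map i) := by rw [he]; infer_instance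
  exact ⟨g, BC.up f κ, SmWeil.MaxTorusBC.isMonHom_of_mono_comp _ ((Over.pullback f).map i), mono_of_mono_fac he, he⟩

end Trans

/-- **Cartan subgroups are conjugate étale locally.** -/
theorem exists_conj_cartan {G C₁ C₂ : Over S} [GrpObj G] [GrpObj C₁] [GrpObj C₂] [Smooth G.hom] [QuasiCompact G.hom]
    (hconn : ∀ s : S, _root_.IsConnected (G.hom.base ⁻¹' {s})) {c₁ : C₁ ⟶ G} {c₂ : C₂ ⟶ G}
    (h₁ : SGA3x.IsCartan c₁) (h₂ : SGA3x.IsCartan c₂) :
    ∃ (S' : Scheme.{u}) (f : S' ⟶ S), Etale f ∧ Surjective f ∧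
      ∃ g : 𝟙_ (Over S') ⟶ Red.bc f G, SGA3x.ConjBy ((Over.pullback f).map c₁) ((Over.pullback f).map c₂) g := by
  haveI := SmWeil.CartanInto.isSeparated_of_connected G hconn
  haveI := h₁.1
  haveI := h₁.2.1
  haveI := h₂.1
  haveI := h₂.2.1
  haveI := h₂.2.2.1
  obtain ⟨M, m, -, hMs, hM⟩ := exists_transporter_cartan hconn c₂ h₁
  haveI := hMs
  haveI : Surjective M.hom := surjective_transporter (fun s => ⟨_, inferInstance, 𝟙 (Red.geomFibre s C₂),
    by rw [Category.id_comp]; exact h₂.2.2.2 s⟩) h₁ hM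
  obtain ⟨S', f, l, hf, hfs, hlf⟩ := EtaleSection.Sections.exists_etale_surjective_section M.hom
  obtain ⟨g, φ, -, -, he⟩ := exists_conj_hom hM (Over.homMk l hlf : Over.mk f ⟶ M)
  haveI : Smooth (Red.bc f G).hom := MorphismProperty.pullback_snd (P := @Smooth) _ _ inferInstance
  haveI := isIso_of_cartan_le (isCartan_conj (SmWeil.CartanAux.isCartan_bc f h₁) g)
    (SmWeil.CartanAux.isCartan_bc f h₂) φ he
  exact ⟨S', f, hf, hfs, g, asIso φ, by rw [← SmWeil.CartanTorus.comp_conjIso, asIso_hom, he]⟩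

/-- **The Cartan locus of a smooth subgroup is open when Cartan subgroups exist locally.** -/
theorem isOpen_cartan_of_cover {G D : Over S} [GrpObj G] [GrpObj D] [Smooth G.hom] [QuasiCompact G.hom]
    (hconn : ∀ s : S, _root_.IsConnected (G.hom.base ⁻¹' {s})) [Smooth D.hom] [GeometricallyConnected D.hom]
    (d : D ⟶ G) [IsMonHom d] [Mono d] {S₁ : Scheme.{u}} (f : S₁ ⟶ S) [Flat f] [Surjective f]
    (hcov : ∀ V : S.Opens, IsAffineOpen V → ∃ W : S₁.Opens, IsCompact (W : Set S₁) ∧ f.base '' (W : Set S₁) = (V : Set S))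
    {C : Over S₁} [GrpObj C] {c : C ⟶ Red.bc f G} (hc : SGA3x.IsCartan c) :
    IsOpen {s : S | SGA3x.IsCartanOver (AlgebraicClosure (S.residueField s))
      ((Over.pullback (Red.geomPt s)).map d)} := by
  haveI := SmWeil.CartanInto.isSeparated_of_connected G hconn
  haveI := SmWeil.CartanOpen.geometricallyConnected_of_fibres G hconn
  refine MT.isOpen_of_preimage f hcov (isOpen_iff_forall_mem_open.2 fun s₁ hs₁ => ?_)
  haveI : Smooth (Red.bc f G).hom := MorphismProperty.pullback_snd (P := @Smooth) _ _ inferInstance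
  haveI : IsSeparated (Red.bc f G).hom := MorphismProperty.pullback_snd (P := @IsSeparated) _ _ inferInstance
  haveI : QuasiCompact (Red.bc f G).hom := MorphismProperty.pullback_snd (P := @QuasiCompact) _ _ inferInstance
  haveI : Smooth (Red.bc f D).hom := MorphismProperty.pullback_snd (P := @Smooth) _ _ inferInstance
  haveI := hc.1
  haveI := hc.2.1
  let d₁ := (Over.pullback f).map d
  haveI : IsMonHom d₁ := inferInstanceAs (IsMonHom ((Over.pullback f).map d))
  haveI : Mono d₁ := inferInstanceAs (Mono ((Over.pullback f).map d))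
  obtain ⟨M, m, -, hMs, hM⟩ := exists_transporter_cartan (SmWeil.CartanOpen.isConnected_fibres f G) d₁ hc
  haveI := hMs
  have hd₁ := (SmWeil.CartanOpen.isCartanOver_iff d f s₁).2 hs₁
  obtain ⟨p, hp⟩ := exists_point_transporter hc hM s₁ ⟨_, inferInstance, 𝟙 (Red.geomFibre s₁ (Red.bc f D)),
    by rw [Category.id_comp]; exact hd₁⟩
  obtain ⟨S₂, σ, s₂, hσ, hσs, h, hh⟩ := EtaleSection.Sections.exists_etale_section M.hom p
  haveI := hσ
  rw [hp] at hσs
  obtain ⟨g, φ, hφm, hφmono, he⟩ := exists_conj_hom hM (Over.homMk h hh : Over.mk σ ⟶ M)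
  haveI := hφm
  haveI := hφmono
  have hcart := isCartan_conj (SmWeil.CartanAux.isCartan_bc σ hc) g
  haveI : Smooth (Red.bc σ (Red.bc f G)).hom := MorphismProperty.pullback_snd (P := @Smooth) _ _ inferInstance
  haveI : IsSeparated (Red.bc σ (Red.bc f G)).hom := MorphismProperty.pullback_snd (P := @IsSeparated) _ _ inferInstance
  haveI : Smooth (Red.bc σ (Red.bc f D)).hom := MorphismProperty.pullback_snd (P := @Smooth) _ _ inferInstance
  haveI := hcart.2.2.1
  haveI : GeometricallyConnected (Red.bc f D).hom := inferInstanceAs (GeometricallyConnected (pullback.snd D.hom f))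
  haveI : GeometricallyConnected (Red.bc σ (Red.bc f D)).hom :=
    inferInstanceAs (GeometricallyConnected (pullback.snd (Red.bc f D).hom σ))
  haveI : LocallyOfFiniteType (Red.bc (Red.geomPt s₂) (Red.bc σ (Red.bc f G))).hom :=
    MorphismProperty.pullback_snd (P := @LocallyOfFiniteType) _ _ inferInstance
  have hiso : IsIso ((Over.pullback (Red.geomPt s₂)).map φ) :=
    isIso_of_cartanOver_le (hcart.2.2.2 s₂)
      ((SmWeil.CartanOpen.isCartanOver_iff d₁ σ s₂).2 (by rw [hσs]; exact hd₁)) _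
      (by rw [← Functor.map_comp, he])
  obtain ⟨O, hO, hOi⟩ := SmWeil.CartanOpen.exists_nhd_iso φ s₂ hiso
  haveI := hOi
  refine ⟨σ '' (O : Set S₂), ?_, σ.isOpenMap _ O.isOpen, ⟨s₂, hO, hσs⟩⟩
  rintro _ ⟨t, ht, rfl⟩
  refine (SmWeil.CartanOpen.isCartanOver_iff d f (σ t)).1 ((SmWeil.CartanOpen.isCartanOver_iff d₁ σ t).1 ?_)
  obtain ⟨t', rfl⟩ : ∃ t' : (O : Scheme.{u}), O.ι t' = t := ⟨⟨t, ht⟩, rfl⟩
  refine (SmWeil.CartanOpen.isCartanOver_iff ((Over.pullback σ).map d₁) O.ι t').1 ?_
  let eC := (Over.pullback (Red.geomPt t')).mapIso (asIso ((Over.pullback O.ι).map φ))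
  haveI : IsMonHom eC.hom := inferInstanceAs (IsMonHom ((Over.pullback (Red.geomPt t')).map ((Over.pullback O.ι).map φ)))
  refine SmWeil.CartanAux.isCartanOver_congr (Iso.refl _) eC (inferInstanceAs (IsMonHom (𝟙 _))) inferInstance ?_
    ((SmWeil.CartanAux.isCartan_bc O.ι hcart).2.2.2 t')
  show _ ≫ 𝟙 _ = (Over.pullback (Red.geomPt t')).map ((Over.pullback O.ι).map φ) ≫ _
  simp only [Category.comp_id, ← Functor.map_comp, he]

/-- **The identity component of a smooth group scheme.** -/
theorem exists_neutral (E : Over S) [GrpObj E] [Smooth E.hom] :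
    ∃ (E₀ : Over S) (_ : GrpObj E₀) (j : E₀ ⟶ E), IsMonHom j ∧ Mono j ∧ IsOpenImmersion j.left ∧
      Smooth E₀.hom ∧ GeometricallyConnected E₀.hom ∧
      Set.range j.left.base = SGA3x.neutralSet E := by
  obtain ⟨-, E₀, _, j, hjm, hjo, hrange, hs, -⟩ := Groth.Agent.S4098.result S E ⟨⊤, inferInstance, fun _ => trivial⟩
  haveI := hjo
  haveI : Mono j := Over.mono_of_mono_left _
  refine ⟨E₀, inferInstance, j, hjm, inferInstance, hjo, hs,
    SmWeil.CartanOpen.geometricallyConnected_of_fibres E₀ fun s => ?_, hrange⟩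
  have himg : j.left.base '' (E₀.hom.base ⁻¹' {s}) =
      connectedComponentIn (E.hom.base ⁻¹' {s}) (η[E].left.base s) := by
    have hh : ∀ w, E.hom.base (j.left.base w) = E₀.hom.base w := fun w => by
      rw [← Over.w j]; rfl
    ext e
    constructor
    · rintro ⟨w, hw, rfl⟩
      have hmem : j.left.base w ∈ SGA3x.neutralSet E := hrange ▸ ⟨w, rfl⟩
      obtain ⟨p, hp⟩ := Set.mem_iUnion.1 hmem
      have h1 := connectedComponentIn_subset _ _ hp
      simp only [Set.mem_preimage, Set.mem_singleton_iff] at h1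
      rw [hh, show E₀.hom.base w = s from hw] at h1
      subst h1
      exact hp
    · intro he
      have hs' := connectedComponentIn_subset _ _ he
      obtain ⟨w, rfl⟩ : e ∈ Set.range j.left.base := by
        rw [hrange]
        exact Set.mem_iUnion.2 ⟨s, he⟩
      exact ⟨w, by rw [Set.mem_preimage, ← hh]; exact hs', rfl⟩
  have hne : (η[E].left.base s) ∈ E.hom.base ⁻¹' {s} := by
    show E.hom (η[E].left s) = s
    rw [← Scheme.Hom.comp_apply, Over.w η[E]]
    rfl
  refine ⟨?_, j.left.isOpenEmbedding.isInducing.isPreconnected_image.1 (by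
    rw [himg]; exact isPreconnected_connectedComponentIn)⟩
  have h1 : η[E].left.base s ∈ j.left.base '' (E₀.hom.base ⁻¹' {s}) := by
    rw [himg]; exact mem_connectedComponentIn hne
  obtain ⟨w, hw, -⟩ := h1
  exact ⟨w, hw⟩

/-- **Near every point, after a smooth base change, a Cartan subgroup exists.** -/
theorem exists_cartan_nhd {G : Over S} [GrpObj G] [Smooth G.hom] [QuasiCompact G.hom]
    (hconn : ∀ s : S, _root_.IsConnected (G.hom.base ⁻¹' {s})) {S₁ : Scheme.{u}} (f : S₁ ⟶ S) [Flat f] [Surjective f]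
    (hcov : ∀ V : S.Opens, IsAffineOpen V → ∃ W : S₁.Opens, IsCompact (W : Set S₁) ∧ f.base '' (W : Set S₁) = (V : Set S))
    {C : Over S₁} [GrpObj C] {c : C ⟶ Red.bc f G} (hc : SGA3x.IsCartan c) (s : S) :
    ∃ (S' : Scheme.{u}) (σ : S' ⟶ S) (s' : S'), Etale σ ∧ σ s' = s ∧
      ∃ (C' : Over S') (_ : GrpObj C') (c' : C' ⟶ Red.bc σ G), SGA3x.IsCartan c' := by
  haveI := SmWeil.CartanInto.isSeparated_of_connected G hconn
  haveI := SmWeil.CartanOpen.geometricallyConnected_of_fibres G hconn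
  haveI := hc.1
  haveI := hc.2.1
  haveI := hc.2.2.1
  obtain ⟨s₁, hs₁⟩ := f.surjective s
  let K := AlgebraicClosure (S₁.residueField s₁)
  let b₁ : Spec (CommRingCat.of K) ⟶ S₁ := Red.geomPt s₁
  let b : Spec (CommRingCat.of K) ⟶ S := b₁ ≫ f
  haveI : Smooth (Red.bc b G).hom := MorphismProperty.pullback_snd (P := @Smooth) _ _ inferInstance
  haveI : IsSeparated (Red.bc b G).hom := MorphismProperty.pullback_snd (P := @IsSeparated) _ _ inferInstance
  haveI : QuasiCompact (Red.bc b G).hom := MorphismProperty.pullback_snd (P := @QuasiCompact) _ _ inferInstance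
  haveI : ConnectedSpace ↥(Red.bc b G).left :=
    GeometricallyConnected.geometrically_connectedSpace _ _ _ (IsPullback.of_hasPullback G.hom b)
  -- the Cartan subgroup of the geometric fibre
  let eG := Tori.BaseChange.overIso (Tori.BaseChange.bcComp b₁ f G).symm
  haveI : IsMonHom eG.hom := Tori.BaseChange.isMonHom_overIso _
  let CK := Red.bc b₁ C
  haveI : Smooth CK.hom := MorphismProperty.pullback_snd (P := @Smooth) _ _ inferInstance
  let cK : CK ⟶ Red.bc b G := (Over.pullback b₁).map c ≫ eG.hom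
  have hcK : SGA3x.IsCartanOver K cK :=
    SmWeil.CartanAux.isCartanOver_congr eG (Iso.refl _) inferInstance (inferInstanceAs (IsMonHom (𝟙 _)))
      (by simp [cK]; rfl) (hc.2.2.2 s₁)
  haveI := hcK.1
  haveI := hcK.2.1
  obtain ⟨Γ₀, _, _, σb, hcard, hcent, hfac⟩ := exists_finite_subgroup hcK
  haveI : ConnectedSpace ↥CK.left := by
    haveI : GeometricallyConnected C.hom := by
      haveI : Smooth (Red.bc f G).hom := MorphismProperty.pullback_snd (P := @Smooth) _ _ inferInstance
      haveI : QuasiCompact (Red.bc f G).hom := MorphismProperty.pullback_snd (P := @QuasiCompact) _ _ inferInstance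
      haveI : GeometricallyConnected (Red.bc f G).hom :=
        inferInstanceAs (GeometricallyConnected (pullback.snd G.hom f))
      exact geometricallyConnected_cartan hc
    exact GeometricallyConnected.geometrically_connectedSpace _ _ _ (IsPullback.of_hasPullback C.hom b₁)
  obtain ⟨X, τ, hXs, hXU, huniv⟩ := exists_hom_scheme G Γ₀
  haveI := hXs
  let vb : Γ₀ →* (Over.mk b ⟶ G) := MonoidHom.mk' (fun a => (SmWeil.unitIso b).inv ≫ BC.down b (σb a ≫ cK))
    fun a a' => by rw [map_mul, MonObj.mul_comp, BC.down_mul, MonObj.comp_mul]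
  have hbU : ∀ p, b p ∈ S.basicOpen (Fintype.card Γ₀ : Γ(S, ⊤)) := fun p => by
    show p ∈ b ⁻¹ᵁ S.basicOpen (Fintype.card Γ₀ : Γ(S, ⊤))
    rw [Scheme.preimage_basicOpen_top, map_natCast,
      ← map_natCast (Scheme.ΓSpecIso (CommRingCat.of K)).inv.hom, basicOpen_eq_of_affine]
    intro hp
    exact p.2.ne_top (Ideal.eq_top_of_isUnit_mem _ hp hcard.isUnit)
  obtain ⟨zb, hzb⟩ := huniv (Over.mk b) hbU vb
  let q : Spec (CommRingCat.of K) ⟶ X.left := zb.left
  let h := X.hom
  have hq : q ≫ h = b := Over.w zb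
  let τ' : Γ₀ → (Over.mk h ⟶ G) := fun a => Over.homMk (τ a).left (Over.w (τ a))
  let σ₁ : Γ₀ →* (𝟙_ (Over X.left) ⟶ Red.bc h G) := MonoidHom.mk' (fun a => SmWeil.ptUp h (τ' a)) fun a a' => by
    simp only [SmWeil.ptUp]
    rw [← BC.up_mul, ← MonObj.comp_mul]
    congr 2
    apply Over.OverMorphism.ext
    show (τ (a * a')).left = _
    rw [map_mul]
    rfl
  haveI : Smooth (Red.bc h G).hom := MorphismProperty.pullback_snd (P := @Smooth) _ _ inferInstance
  haveI : IsSeparated (Red.bc h G).hom := MorphismProperty.pullback_snd (P := @IsSeparated) _ _ inferInstance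
  haveI : QuasiCompact (Red.bc h G).hom := MorphismProperty.pullback_snd (P := @QuasiCompact) _ _ inferInstance
  obtain ⟨E, _, ec, hem, hemono, -, hEs, hE⟩ := exists_centralizer σ₁ fun A t =>
    isUnit_natCast (t ≫ h) _ fun p => by rw [Scheme.Hom.comp_apply]; exact hXU _
  haveI := hem; haveI := hemono; haveI := hEs
  obtain ⟨E₀, _, j, hjm, hjmono, hjo, hE₀s, hE₀c, hrange⟩ := exists_neutral E
  haveI := hjm; haveI := hjmono; haveI := hjo; haveI := hE₀s; haveI := hE₀c
  -- comparison at the point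
  let εh : ∀ Y : Over (Spec (CommRingCat.of K)), (Over.map h).obj ((Over.map q).obj Y) ≅ (Over.map b).obj Y :=
    fun Y => Over.isoMk (Iso.refl _) (by
      show 𝟙 _ ≫ Y.hom ≫ b = (Y.hom ≫ q) ≫ h
      rw [Category.id_comp, Category.assoc, hq])
  let Gq := Red.bc q (Red.bc h G)
  let ψ : Gq ≅ Red.bc b G :=
    { hom := BC.up b ((εh Gq).inv ≫ BC.down h (BC.down q (𝟙 _)))
      inv := BC.up q (BC.up h ((εh _).hom ≫ BC.down b (𝟙 _)))
      hom_inv_id := by
        refine BC.down_injective (BC.down_injective ?_)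
        rw [BC.down_comp, BC.down_up, BC.down_comp, BC.down_up]
        have e : (Over.map h).map ((Over.map q).map (BC.up b ((εh Gq).inv ≫ BC.down h (BC.down q (𝟙 _))))) ≫
            (εh _).hom = (εh Gq).hom ≫ (Over.map b).map (BC.up b ((εh Gq).inv ≫ BC.down h (BC.down q (𝟙 _)))) := by
          apply Over.OverMorphism.ext
          simp [εh]
        rw [reassoc_of% e, ← BC.down_comp, Category.comp_id, BC.down_up, Iso.hom_inv_id_assoc]
      inv_hom_id := by
        refine BC.down_injective ?_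
        rw [BC.down_comp, BC.down_up]
        have e : (Over.map b).map (BC.up q (BC.up h ((εh (Red.bc b G)).hom ≫ BC.down b (𝟙 _)))) ≫ (εh Gq).inv =
            (εh _).inv ≫ (Over.map h).map ((Over.map q).map (BC.up q (BC.up h ((εh (Red.bc b G)).hom ≫ BC.down b (𝟙 _))))) := by
          apply Over.OverMorphism.ext
          exact (Category.comp_id _).trans (Category.id_comp _).symm
        rw [reassoc_of% e, ← BC.down_comp, ← BC.down_comp, Category.comp_id, BC.down_up, BC.down_up,
          Iso.inv_hom_id_assoc] }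
  have hψ : ∀ (Y : Over (Spec (CommRingCat.of K))) (y : Y ⟶ Gq),
      BC.down b (y ≫ ψ.hom) = (εh Y).inv ≫ BC.down h (BC.down q y) := fun Y y => by
    rw [BC.down_comp, BC.down_up]
    have e : (Over.map b).map y ≫ (εh Gq).inv = (εh Y).inv ≫ (Over.map h).map ((Over.map q).map y) := by
      apply Over.OverMorphism.ext
      simp [εh]
    rw [reassoc_of% e, ← BC.down_comp, ← BC.down_comp, Category.comp_id]
  have hψmul : ∀ (Y : Over (Spec (CommRingCat.of K))) (y y' : Y ⟶ Gq),
      (y * y') ≫ ψ.hom = (y ≫ ψ.hom) * (y' ≫ ψ.hom) := fun Y y y' => by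
    refine BC.down_injective ?_
    rw [BC.down_mul, hψ, hψ, hψ, BC.down_mul, BC.down_mul, MonObj.comp_mul]
  haveI : IsMonHom ψ.hom := Lib.DiagGL.isMonHom_of_mul ψ.hom
    (by
      have h1 := hψmul (𝟙_ _) 1 1
      rw [_root_.one_mul] at h1
      exact (left_eq_mul.1 h1)) hψmul
  have hpt : ∀ (Y : Over (Spec (CommRingCat.of K))) (a : Γ₀),
      BC.down h (toUnit ((Over.map q).obj Y) ≫ σ₁ a) = (εh Y).hom ≫ BC.down b (toUnit Y ≫ σb a ≫ cK) := by
    intro Y a
    rw [show σ₁ a = SmWeil.ptUp h (τ' a) from rfl, SmWeil.down_toUnit_ptUp, BC.down_comp]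
    have e1 : BC.down b (σb a ≫ cK) = (SmWeil.unitIso b).hom ≫ zb ≫ τ a := by
      rw [hzb a]; simp [vb]
    rw [e1]
    apply Over.OverMorphism.ext
    simp [τ', SmWeil.unitIso, εh, q]
  have hσψ : ∀ (Y : Over (Spec (CommRingCat.of K))) (a : Γ₀),
      BC.up q (toUnit ((Over.map q).obj Y) ≫ σ₁ a) ≫ ψ.hom = toUnit Y ≫ σb a ≫ cK := fun Y a => by
    refine BC.down_injective ?_
    rw [hψ, BC.down_up, hpt, Iso.inv_hom_id_assoc]
  -- the neutral component at the point
  let eq' : Red.bc q E₀ ⟶ Red.bc q E := (Over.pullback q).map j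
  let dq : Red.bc q E ⟶ Red.bc b G := (Over.pullback q).map ec ≫ ψ.hom
  haveI : IsIso ψ.hom := ψ.isIso_hom
  haveI : Mono dq := mono_comp _ _
  obtain ⟨r, hr⟩ := hfac _ dq fun a => by
    have h1 := (hE (BC.down q (𝟙 (Red.bc q E)) ≫ ec)).1 ⟨_, rfl⟩ a
    have h2 := congrArg (fun w => BC.up q w ≫ ψ.hom) h1.eq
    simp only [BC.up_mul, hψmul, hσψ] at h2
    rw [← BC.down_map, BC.up_down, Category.id_comp] at h2
    exact h2
  obtain ⟨r', hr'⟩ := (hE (BC.down q (cK ≫ ψ.inv))).2 fun a => by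
    refine BC.down_injective ?_
    have h1 := congrArg (fun w => (εh CK).hom ≫ BC.down b w) (congrArg (· ≫ cK) (hcent CK (𝟙 CK) a).eq)
    simp only [MonObj.mul_comp, Category.id_comp, Category.assoc, BC.down_mul, MonObj.comp_mul] at h1
    rw [← hpt] at h1
    rw [BC.down_mul, BC.down_mul]
    have e : BC.down h (BC.down q (cK ≫ ψ.inv)) = (εh CK).hom ≫ BC.down b cK := by
      have := hψ CK (cK ≫ ψ.inv)
      rw [Category.assoc, Iso.inv_hom_id, Category.comp_id] at this
      rw [this, Iso.hom_inv_id_assoc]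
    rw [e]
    exact h1
  have hr'' : BC.up q r' ≫ dq = cK := by
    have e : BC.up q r' ≫ (Over.pullback q).map ec = cK ≫ ψ.inv :=
      BC.down_injective (by rw [BC.down_map, BC.down_up, hr'])
    rw [show BC.up q r' ≫ dq = (BC.up q r' ≫ (Over.pullback q).map ec) ≫ ψ.hom from (Category.assoc _ _ _).symm, e,
      Category.assoc, Iso.inv_hom_id, Category.comp_id]
  haveI : Mono r := mono_of_mono_fac hr
  haveI : IsIso r := SmWeil.CartanTorus.isIso_of_split r (BC.up q r') (by
    rw [← cancel_mono cK, Category.assoc, hr, hr'', Category.id_comp])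
  haveI : ConnectedSpace ↥(Red.bc q E).left := by
    have hi : IsIso (CategoryTheory.inv r).left := ((Over.forget _).mapIso (asIso r).symm).isIso_hom
    exact (CategoryTheory.inv r).left.surjective.connectedSpace (CategoryTheory.inv r).left.continuous
  haveI : IsIso eq' := by
    haveI : IsOpenImmersion eq'.left := Charts.fib_of @IsOpenImmersion q j hjo
    have hsurj : Surjective eq'.left := ⟨fun e => by
      let x := q (IsLocalRing.closedPoint K)
      let A := Set.range (pullback.fst E.hom q).base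
      haveI : ConnectedSpace ↥(pullback E.hom q) := ‹ConnectedSpace ↥(Red.bc q E).left›
      have hA : _root_.IsPreconnected A := (isConnected_range (pullback.fst E.hom q).continuous).isPreconnected
      have hAx : A ⊆ E.hom.base ⁻¹' {x} := by
        rintro _ ⟨w, rfl⟩
        show E.hom (pullback.fst E.hom q w) = x
        rw [← Scheme.Hom.comp_apply, pullback.condition, Scheme.Hom.comp_apply]
        exact congrArg q (Subsingleton.elim (α := PrimeSpectrum K) _ _)
      have hone : η[E].left.base x ∈ A := by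
        let o : ↥(𝟙_ (Over (Spec (CommRingCat.of K)))).left := IsLocalRing.closedPoint K
        refine ⟨η[Red.bc q E].left o, ?_⟩
        have he : η[Red.bc q E].left ≫ pullback.fst E.hom q = q ≫ η[E].left := by
          have h : BC.down q (1 : 𝟙_ (Over (Spec (CommRingCat.of K))) ⟶ Red.bc q E) = 1 := BC.down_one
          rw [← one_eq_one, Hom.one_def] at h
          exact congrArg CommaMorphism.left h
        have h5 : (η[Red.bc q E].left ≫ pullback.fst E.hom q) o = (q ≫ η[E].left) o := congrArg (fun f => f o) he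
        simp only [Scheme.Hom.comp_apply] at h5
        exact h5
      have hmem : pullback.fst E.hom q e ∈ Set.range j.left.base := by
        rw [hrange]
        exact Set.mem_iUnion.2 ⟨x, hA.subset_connectedComponentIn hone hAx ⟨e, rfl⟩⟩
      obtain ⟨v, hv⟩ := hmem
      obtain ⟨p, hp⟩ := Scheme.Pullback.exists_preimage_pullback (f := j.left) (g := pullback.fst E.hom q) v e hv
      have sq' := (Charts.isPullback_map q j).flip
      refine ⟨sq'.flip.isoPullback.inv p, ?_⟩
      have h5 := congrArg (fun f => f p) sq'.flip.isoPullback_inv_snd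
      simp only [Scheme.Hom.comp_apply] at h5
      exact h5.trans hp.2⟩
    haveI : IsIso ((Over.forget _).map eq') :=
      (isIso_iff_isOpenImmersion_and_epi_base eq'.left).2
        ⟨inferInstance, (TopCat.epi_iff_surjective _).2 eq'.left.surjective⟩
    exact isIso_of_reflects_iso eq' (Over.forget _)
  let d : E₀ ⟶ Red.bc h G := j ≫ ec
  haveI : IsMonHom d := inferInstanceAs (IsMonHom (j ≫ ec))
  haveI : Mono d := mono_comp _ _
  have hdq : SGA3x.IsCartanOver K ((Over.pullback q).map d) := by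
    haveI : IsMonHom dq := inferInstanceAs (IsMonHom ((Over.pullback q).map ec ≫ ψ.hom))
    haveI : IsMonHom (r ≫ cK) := hr.symm ▸ inferInstance
    haveI : IsMonHom r := SmWeil.MaxTorusBC.isMonHom_of_mono_comp r cK
    haveI : IsMonHom (asIso eq' ≪≫ asIso r).hom := inferInstanceAs (IsMonHom ((Over.pullback q).map j ≫ r))
    refine SmWeil.CartanAux.isCartanOver_congr ψ.symm (asIso eq' ≪≫ asIso r).symm
      (SmWeil.CartanAux.isMonHom_inv ψ inferInstance)
      (SmWeil.CartanAux.isMonHom_inv (asIso eq' ≪≫ asIso r) inferInstance) ?_ hcK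
    rw [Iso.symm_hom, Iso.symm_hom, Iso.eq_inv_comp, Iso.trans_hom, asIso_hom, asIso_hom, Functor.map_comp,
      Category.assoc, reassoc_of% hr]
    simp [dq, eq']
  let x : X.left := q (IsLocalRing.closedPoint K)
  have hx : SGA3x.IsCartanOver (AlgebraicClosure (X.left.residueField x)) ((Over.pullback (Red.geomPt x)).map d) := by
    haveI : Smooth (Red.bc q (Red.bc h G)).hom := MorphismProperty.pullback_snd (P := @Smooth) _ _ inferInstance
    haveI : IsSeparated (Red.bc q (Red.bc h G)).hom := MorphismProperty.pullback_snd (P := @IsSeparated) _ _ inferInstance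
    haveI : Smooth (Red.bc q E₀).hom := MorphismProperty.pullback_snd (P := @Smooth) _ _ inferInstance
    exact (SmWeil.CartanOpen.isCartanOver_iff d q (IsLocalRing.closedPoint K)).1
      ((isCartan_of_over hdq).2.2.2 _)
  -- openness
  let S₃ := pullback h f
  let f₃ : S₃ ⟶ X.left := pullback.fst h f
  haveI : Flat f₃ := inferInstanceAs (Flat (pullback.fst h f))
  haveI : Surjective f₃ := inferInstanceAs (Surjective (pullback.fst h f))
  let p₃ : S₃ ⟶ S₁ := pullback.snd h f
  obtain ⟨e₃G, -, -⟩ := SmWeil.MaxTorusBC.exists_transport p₃ f f₃ h pullback.condition.symm (𝟙 G)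
  haveI : IsMonHom (Tori.BaseChange.overIso e₃G).hom := Tori.BaseChange.isMonHom_overIso _
  have hc₃ : SGA3x.IsCartan ((Over.pullback p₃).map c ≫ (Tori.BaseChange.overIso e₃G).hom) := by
    haveI : Smooth (Red.bc f G).hom := MorphismProperty.pullback_snd (P := @Smooth) _ _ inferInstance
    haveI : IsSeparated (Red.bc f G).hom := MorphismProperty.pullback_snd (P := @IsSeparated) _ _ inferInstance
    have h1 := SmWeil.CartanAux.isCartan_bc p₃ hc
    refine ⟨inferInstance, mono_comp _ _, h1.2.2.1, fun t => ?_⟩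
    haveI : IsMonHom ((Over.pullback (Red.geomPt t)).mapIso (Tori.BaseChange.overIso e₃G)).hom :=
      inferInstanceAs (IsMonHom ((Over.pullback (Red.geomPt t)).map (Tori.BaseChange.overIso e₃G).hom))
    exact SmWeil.CartanAux.isCartanOver_congr ((Over.pullback (Red.geomPt t)).mapIso (Tori.BaseChange.overIso e₃G))
      (Iso.refl _) inferInstance (inferInstanceAs (IsMonHom (𝟙 _))) (by simp [Functor.map_comp]) (h1.2.2.2 t)
  have hop := isOpen_cartan_of_cover (SmWeil.CartanOpen.isConnected_fibres h G) d f₃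
    (Tori.Basic.isQCCover_pullback_snd hcov h) hc₃
  let P : X.left.Opens := ⟨_, hop⟩
  haveI : Smooth (P.ι ≫ h) := inferInstance
  obtain ⟨S', σ, s', hσ, hσs, l, hl⟩ := EtaleSection.Sections.exists_etale_section (P.ι ≫ h) ⟨x, hx⟩
  let l' : S' ⟶ X.left := l ≫ P.ι
  have hl' : l' ≫ h = σ := by rw [Category.assoc, hl]
  refine ⟨S', σ, s', hσ, hσs.trans ?_, ?_⟩
  · show (P.ι ≫ h) ⟨x, hx⟩ = s
    rw [Scheme.Hom.comp_apply]
    show h (q _) = s
    rw [← Scheme.Hom.comp_apply, hq, Scheme.Hom.comp_apply, ← hs₁]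
    exact congrArg f (S₁.fromSpecResidueField_apply s₁ _)
  have hP : SGA3x.IsCartan ((Over.pullback l').map d) := by
    refine ⟨inferInstance, inferInstance, MorphismProperty.pullback_snd (P := @Smooth) _ _ inferInstance, fun t => ?_⟩
    exact (SmWeil.CartanOpen.isCartanOver_iff d l' t).2 (by
      show l' t ∈ P
      rw [Scheme.Hom.comp_apply]
      exact Subtype.prop _)
  let eG' := Tori.BaseChange.overIso ((Tori.BaseChange.bcComp l' h G).symm ≪≫ Tori.BaseChange.bcCongr hl' G)
  haveI : IsMonHom eG'.hom := Tori.BaseChange.isMonHom_overIso _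
  refine ⟨_, inferInstance, (Over.pullback l').map d ≫ eG'.hom, ⟨inferInstance, mono_comp _ _, hP.2.2.1, fun t => ?_⟩⟩
  haveI : IsMonHom ((Over.pullback (Red.geomPt t)).mapIso eG').hom :=
    inferInstanceAs (IsMonHom ((Over.pullback (Red.geomPt t)).map eG'.hom))
  exact SmWeil.CartanAux.isCartanOver_congr ((Over.pullback (Red.geomPt t)).mapIso eG')
    (Iso.refl _) inferInstance (inferInstanceAs (IsMonHom (𝟙 _))) (by simp [Functor.map_comp]) (hP.2.2.2 t)

end Groth.Agent.H13.FinAvg
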