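import Groth.Agent.H13.FinAvg.Avg
import Groth.Agent.Lib.GrpSch.SmoothCrit
import Groth.Agent.Lib.SmWeil.CartanTorus

/-!
# Transporters of a subgroup rigidified by a finite group are smooth
-/

set_option autoImplicit false
set_option linter.style.haveILetI false
set_option linter.unusedSectionVars false
set_option backward.isDefEq.respectTransparency false
set_option synthInstance.maxHeartbeats 200000
set_option maxHeartbeats 1000000

universe u

open CategoryTheory CategoryTheory.Limits AlgebraicGeometry MonoidalCategory CartesianMonoidalCategory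
open CategoryTheory.MonObj CategoryTheory.GrpObj
open Groth.Agent.Lib Groth.Agent.H87 Groth.Agent.H87.HomDS
open Groth.Agent.Lib.RedPts
open Groth.Agent.H13.FinAvg

namespace Groth.Agent.H13.FinAvg.Transporter

variable {S : Scheme.{u}} {G H C : Over S} [GrpObj G] [GrpObj H] [GrpObj C]

/-- A finite central subgroup of points whose centralizer contains `C` as an open subgroup. -/
structure Rigid (c : C ⟶ G) where
  /-- the finite group -/
  Γ : Type u
  /-- group structure -/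
  grp : Group Γ
  /-- finiteness -/
  fin : Fintype Γ
  /-- the points -/
  σ : Γ →* (𝟙_ (Over S) ⟶ C)
  comm : ∀ (X : Over S) (y : X ⟶ C) (gam : Γ), Commute y (toUnit X ≫ σ gam)
  unit : ∀ (A : CommRingCat.{u}) (_ : Spec A ⟶ S), IsUnit (Fintype.card Γ : A)
  lifts : ∀ (A : CommRingCat.{u}) (t : Spec A ⟶ S) (J : Ideal A), J ^ 2 = ⊥ →
    ∀ (k : test t (𝟙 A) ⟶ G) (y₀ : test t (MultAvg.mkA J) ⟶ C), m₀ t J ≫ k = y₀ ≫ c →
      (∀ gam, Commute k (toUnit (test t (𝟙 A)) ≫ σ gam ≫ c)) → ∃ y : test t (𝟙 A) ⟶ C, y ≫ c = k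

attribute [instance] Rigid.grp Rigid.fin

/-- `g` moves `C` into `H`. -/
def Into (i : H ⟶ G) (c : C ⟶ G) {X : Over S} (g : X ⟶ G) : Prop :=
  ∀ (X' : Over S) (x : X' ⟶ X) (y : X' ⟶ C), ∃ h : X' ⟶ H, (x ≫ g) * (y ≫ c) * (x ≫ g)⁻¹ = h ≫ i

/-- Points over a field kill nilpotent ideals. -/
theorem exists_factor_field {A : CommRingCat.{u}} {J : Ideal A} (hJ : J ^ 2 = ⊥) {K : Type u} [Field K]
    (b : Spec (CommRingCat.of K) ⟶ Spec A) :
    ∃ q : Spec (CommRingCat.of K) ⟶ Spec (CommRingCat.of (A ⧸ J)), q ≫ Spec.map (MultAvg.mkA J) = b := by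
  obtain ⟨φ, rfl⟩ := Spec.map_surjective b
  have hk : ∀ a ∈ J, φ.hom a = 0 := fun a ha => by
    have h2 : a * a = 0 := by
      have : a * a ∈ J ^ 2 := by rw [pow_two]; exact Ideal.mul_mem_mul ha ha
      rwa [hJ] at this
    exact mul_self_eq_zero.1 (by rw [← map_mul, h2, map_zero])
  exact ⟨Spec.map (CommRingCat.ofHom (Ideal.Quotient.lift J φ.hom hk)), by rw [← Spec.map_comp]; rfl⟩

variable [Smooth G.hom] [Smooth H.hom] [Smooth C.hom] {i : H ⟶ G} [IsMonHom i] [Mono i]
  {c : C ⟶ G} [IsMonHom c] [Mono c]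

/-- A point moving the finite group into `H`, congruent to one moving `C` into `H`, moves `C` into `H`. -/
theorem into_of_gamma (R : Rigid c) {A : CommRingCat.{u}} {t : Spec A ⟶ S} {J : Ideal A} (hJ : J ^ 2 = ⊥)
    (g : test t (𝟙 A) ⟶ G) (hg₀ : Into i c (m₀ t J ≫ g)) (τ : R.Γ →* (test t (𝟙 A) ⟶ H))
    (hτ : ∀ gam, g * (toUnit (test t (𝟙 A)) ≫ R.σ gam ≫ c) * g⁻¹ = τ gam ≫ i) : Into i c g := by
  let P : Over S := test t (𝟙 A)
  let u : P ⊗ C ⟶ G := (fst P C ≫ g) * (snd P C ≫ c) * (fst P C ≫ g)⁻¹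
  have hu : ∀ {T : Over S} (x : T ⟶ P) (y : T ⟶ C), lift x y ≫ u = (x ≫ g) * (y ≫ c) * (x ≫ g)⁻¹ := fun x y => by
    simp only [u, MonObj.comp_mul, GrpObj.comp_inv, lift_fst_assoc, lift_snd_assoc]
  obtain ⟨W, w, hwm, hwfp, -, hw⟩ := SmWeil.exists_preimage_mono u i
  haveI := hwfp (SmWeil.lfp_left i)
  haveI := hwm
  haveI : Mono w.left := inferInstanceAs (Mono ((Over.forget S).map w))
  have sqP : IsPullback (fst P C).left (snd P C).left P.hom C.hom := IsPullback.of_hasPullback _ _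
  haveI : Smooth (fst P C).left := MorphismProperty.of_isPullback sqP.flip inferInstance
  let π : W.left ⟶ Spec A := w.left ≫ (fst P C).left
  let pπ : W.left ⟶ P.left := w.left ≫ (fst P C).left
  haveI : LocallyOfFinitePresentation π := inferInstanceAs (LocallyOfFinitePresentation (w.left ≫ (fst P C).left))
  haveI : Smooth π := by
    refine GrpSch.smooth_of_liftings π fun B I hI s c₁ hc₁ => ?_
    let tB : Spec B ⟶ S := s ≫ t
    let p : test tB (𝟙 B) ⟶ P := Over.homMk s (by simp [P, tB])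
    let w₀ : test tB (MultAvg.mkA I) ⟶ W := Over.homMk c₁ (by
      show c₁ ≫ W.hom = _
      rw [← Over.w w, ← Over.w (fst P C)]
      show c₁ ≫ w.left ≫ (fst P C).left ≫ Spec.map (𝟙 A) ≫ t = Spec.map (MultAvg.mkA I) ≫ tB
      erw [Spec.map_id, Category.id_comp]
      simpa [π, tB] using congrArg (· ≫ t) hc₁)
    have hp : w₀ ≫ w ≫ fst P C = m₀ tB I ≫ p := Over.OverMorphism.ext hc₁
    let y₀ := w₀ ≫ w ≫ snd P C
    obtain ⟨κ₀, hκ₀⟩ := (hw (w₀ ≫ w)).1 ⟨w₀, rfl⟩
    have hlift : w₀ ≫ w = lift (m₀ tB I ≫ p) y₀ :=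
      CartesianMonoidalCategory.hom_ext _ _ (by rw [lift_fst, Category.assoc, hp]) (by rw [lift_snd, Category.assoc])
    rw [hlift, hu] at hκ₀
    obtain ⟨h, hh⟩ := exists_lift (K := H) hI κ₀
    let T : R.Γ →* (test tB (𝟙 B) ⟶ H) := MonoidHom.mk' (fun gam => p ≫ τ gam) fun a b => by
      rw [map_mul, MonObj.comp_mul]
    have hT : ∀ gam, (p ≫ g) * (toUnit (test tB (𝟙 B)) ≫ R.σ gam ≫ c) * (p ≫ g)⁻¹ = T gam ≫ i := fun gam => by
      have e := congrArg (p ≫ ·) (hτ gam)
      simp only [MonObj.comp_mul, GrpObj.comp_inv, ← Category.assoc, toUnit_unique (p ≫ toUnit _) (toUnit _)] at e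
      simpa [T, P] using e
    have hc₀ : ∀ gam, κ₀ * (m₀ tB I ≫ T gam) * κ₀⁻¹ = m₀ tB I ≫ T gam := fun gam => by
      have hcy : Commute (y₀ ≫ c) (toUnit (test tB (MultAvg.mkA I)) ≫ R.σ gam ≫ c) := by
        have := congrArg (· ≫ c) (R.comm _ y₀ gam).eq
        simpa [MonObj.mul_comp, commute_iff_eq] using this
      have eT := congrArg (m₀ tB I ≫ ·) (hT gam)
      simp only [MonObj.comp_mul, GrpObj.comp_inv, ← Category.assoc,
        toUnit_unique (m₀ tB I ≫ toUnit _) (toUnit _)] at eT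
      simp only [Category.assoc] at eT
      rw [← cancel_mono i]
      simp only [MonObj.mul_comp, GrpObj.inv_comp, Category.assoc] at hκ₀ ⊢
      rw [hκ₀, ← eT]
      generalize y₀ ≫ c = Y at *
      generalize toUnit _ ≫ R.σ gam ≫ c = s at *
      generalize m₀ tB I ≫ p ≫ g = g' at *
      calc g' * Y * g'⁻¹ * (g' * s * g'⁻¹) * (g' * Y * g'⁻¹)⁻¹ = g' * (Y * s) * Y⁻¹ * g'⁻¹ := by group
        _ = g' * s * g'⁻¹ := by rw [hcy.eq]; group
    obtain ⟨h', hh', hcomm⟩ := exists_conj_lift (K := H) (R.unit B tB) hI T T κ₀ hc₀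
    let k : test tB (𝟙 B) ⟶ G := (p ≫ g)⁻¹ * (h' ≫ i) * (p ≫ g)
    have hk : m₀ tB I ≫ k = y₀ ≫ c := by
      simp only [k, MonObj.comp_mul, GrpObj.comp_inv]
      rw [← Category.assoc (m₀ tB I) h' i, hh', hκ₀]
      simp only [Category.assoc]
      group
    have hks : ∀ gam, Commute k (toUnit (test tB (𝟙 B)) ≫ R.σ gam ≫ c) := fun gam => by
      have e1 := congrArg (· ≫ i) (hcomm gam)
      simp only [MonObj.mul_comp, GrpObj.inv_comp] at e1
      rw [← hT gam] at e1
      simp only [k, commute_iff_eq]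
      generalize h' ≫ i = a at *
      generalize toUnit _ ≫ R.σ gam ≫ c = s at *
      generalize p ≫ g = g' at *
      calc g'⁻¹ * a * g' * s = g'⁻¹ * (a * (g' * s * g'⁻¹) * a⁻¹) * a * g' := by group
        _ = g'⁻¹ * (g' * s * g'⁻¹) * a * g' := by rw [e1]
        _ = s * (g'⁻¹ * a * g') := by group
    obtain ⟨y, hy⟩ := R.lifts B tB I hI k y₀ hk hks
    obtain ⟨z, hz⟩ := (hw (lift p y)).2 ⟨h', by
      rw [hu, hy]; simp only [k]; group⟩
    refine ⟨z.left, ?_, ?_⟩
    · show z.left ≫ w.left ≫ (fst P C).left = s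
      rw [← Category.assoc, ← Over.comp_left, hz, ← Over.comp_left, lift_fst]
      rfl
    · have e : m₀ tB I ≫ z = w₀ := by
        rw [← cancel_mono w, Category.assoc, hz, hlift, comp_lift]
        congr 1
        rw [← cancel_mono c, Category.assoc, hy, hk]
      exact congrArg CommaMorphism.left e
  -- the piece is everything
  haveI : IsIso w.left := by
    let W' : Over (Spec A) := Over.mk π
    let Q' : Over (Spec A) := Over.mk ((fst P C).left : (P ⊗ C).left ⟶ Spec A)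
    let w' : W' ⟶ Q' := Over.homMk w.left rfl
    haveI : Smooth W'.hom := inferInstanceAs (Smooth π)
    haveI : LocallyOfFiniteType Q'.hom := inferInstanceAs (LocallyOfFiniteType (fst P C).left)
    haveI : Mono w'.left := inferInstanceAs (Mono w.left)
    haveI : Mono w' := GrpQ.mono_of_left w'
    have hiso : IsIso w' := SmWeil.CartanAux.isIso_of_geom_fibres w' fun a => by
      obtain ⟨q, hq⟩ := exists_factor_field hJ (Red.geomPt a)
      let b := Red.geomPt a
      let D : Over S := Over.mk (pullback.fst Q'.hom b ≫ (P ⊗ C).hom)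
      let d : D ⟶ P ⊗ C := Over.homMk (pullback.fst Q'.hom b) rfl
      let d₀ : D ⟶ test t (MultAvg.mkA J) := Over.homMk (pullback.snd Q'.hom b ≫ q) (by
        show (pullback.snd Q'.hom b ≫ q) ≫ Spec.map (MultAvg.mkA J) ≫ t = pullback.fst Q'.hom b ≫ (P ⊗ C).hom
        rw [Category.assoc, reassoc_of% hq, ← Over.w (fst P C)]
        show _ = pullback.fst Q'.hom b ≫ (fst P C).left ≫ Spec.map (𝟙 A) ≫ t
        erw [Spec.map_id, Category.id_comp]
        exact (pullback.condition_assoc (f := Q'.hom) (g := b) t).symm)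
      have hd : d₀ ≫ m₀ t J = d ≫ fst P C := Over.OverMorphism.ext (by
        show (pullback.snd Q'.hom b ≫ q) ≫ Spec.map (MultAvg.mkA J) = pullback.fst Q'.hom b ≫ (fst P C).left
        rw [Category.assoc, hq]
        exact pullback.condition.symm)
      obtain ⟨κ, hκ⟩ := hg₀ D d₀ (d ≫ snd P C)
      obtain ⟨z, hz⟩ := (hw d).2 ⟨κ, by
        rw [← hκ, ← Category.assoc, hd]
        simp only [u, MonObj.comp_mul, GrpObj.comp_inv, Category.assoc]⟩
      let z' : (Over.map b).obj ((Over.pullback b).obj Q') ⟶ W' := Over.homMk z.left (by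
        show z.left ≫ w.left ≫ (fst P C).left = pullback.snd Q'.hom b ≫ b
        rw [← pullback.condition, ← Category.assoc, ← Over.comp_left, hz]
        rfl)
      haveI : Mono ((Over.pullback b).map w') := inferInstance
      refine SmWeil.CartanTorus.isIso_of_split _ (BC.up b z') (BC.down_injective ?_)
      rw [BC.down_map, BC.down_up]
      apply Over.OverMorphism.ext
      have e : z.left ≫ w.left = pullback.fst Q'.hom b := congrArg CommaMorphism.left hz
      refine e.trans ?_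
      rw [BC.down_left]
      exact (Category.id_comp _).symm
    exact inferInstanceAs (IsIso ((Over.forget _).map w'))
  haveI : IsIso w := by
    haveI : IsIso ((Over.forget S).map w) := ‹IsIso w.left›
    exact isIso_of_reflects_iso w (Over.forget S)
  intro X' x y
  obtain ⟨κ, hκ⟩ := (hw (lift x y)).1 ⟨lift x y ≫ inv w, by rw [Category.assoc, IsIso.inv_hom_id, Category.comp_id]⟩
  exact ⟨κ, by rw [← hu]; exact hκ.symm⟩

/-- The transporter of a rigidified subgroup into a smooth subgroup is smooth. -/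
theorem smooth_transporter (R : Rigid c) {M : Over S} (m : M ⟶ G) [Mono m] [LocallyOfFinitePresentation M.hom]
    (hM : ∀ {X : Over S} (g : X ⟶ G), (∃ z, z ≫ m = g) ↔ Into i c g) : Smooth M.hom := by
  refine GrpSch.smooth_of_liftings M.hom fun A J hJ t c₀ hc₀ => ?_
  let z₀ : test t (MultAvg.mkA J) ⟶ M := Over.homMk c₀ hc₀
  let g₀ := z₀ ≫ m
  have hg₀ : Into i c g₀ := (hM g₀).1 ⟨z₀, rfl⟩
  choose τ₁ hτ₁ using fun gam => hg₀ _ (𝟙 _) (toUnit _ ≫ R.σ gam)
  simp only [Category.id_comp, Category.assoc] at hτ₁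
  let τ₀ : R.Γ →* (test t (MultAvg.mkA J) ⟶ H) := MonoidHom.mk' τ₁ fun a b => by
    rw [← cancel_mono i, MonObj.mul_comp, ← hτ₁, ← hτ₁, ← hτ₁, map_mul, MonObj.mul_comp, MonObj.comp_mul]
    group
  obtain ⟨τ, hτ⟩ := exists_hom_lift (K := H) (R.unit A t) hJ τ₀
  let u : R.Γ →* (test t (𝟙 A) ⟶ G) := MonoidHom.mk' (fun gam => toUnit _ ≫ R.σ gam ≫ c) fun a b => by
    rw [map_mul, MonObj.mul_comp, MonObj.comp_mul]
  let v : R.Γ →* (test t (𝟙 A) ⟶ G) := MonoidHom.mk' (fun gam => τ gam ≫ i) fun a b => by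
    rw [map_mul, MonObj.mul_comp]
  obtain ⟨g, hg, hrel⟩ := exists_conj_lift (K := G) (R.unit A t) hJ u v g₀ fun gam => by
    show g₀ * (m₀ t J ≫ toUnit _ ≫ R.σ gam ≫ c) * g₀⁻¹ = m₀ t J ≫ τ gam ≫ i
    rw [← Category.assoc, toUnit_unique (m₀ t J ≫ toUnit _) (toUnit _), hτ₁ gam, ← Category.assoc (m₀ t J) (τ gam), hτ]
    rfl
  obtain ⟨z, hz⟩ := (hM g).2 (into_of_gamma R hJ g (by rw [hg]; exact hg₀) τ hrel)
  refine ⟨z.left, ?_, ?_⟩
  · rw [Over.w z]
    simp
  · haveI : Mono m.left := inferInstanceAs (Mono ((Over.forget S).map m))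
    rw [← cancel_mono m.left, Category.assoc, ← Over.comp_left, hz]
    exact congrArg CommaMorphism.left hg

end Groth.Agent.H13.FinAvg.Transporter
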