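import Groth.Agent.H13.FinAvg.Field
import Groth.Agent.H13.FinAvg.Transporter
import Groth.Agent.Lib.SmWeil.CartanOpen
import Groth.Agent.H13.NormCartan.Main
import Groth.Agent.Lib.GrpSch.UnitOpen

/-!
# Transporters of Cartan subgroups into smooth subgroups are smooth
-/

set_option autoImplicit false
set_option linter.style.haveILetI false
set_option linter.unusedSectionVars false
set_option backward.isDefEq.respectTransparency false
set_option synthInstance.maxHeartbeats 200000
set_option maxHeartbeats 1000000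

universe u

open CategoryTheory CategoryTheory.Limits AlgebraicGeometry MonoidalCategory CartesianMonoidalCategory
open CategoryTheory.MonObj CategoryTheory.GrpObj
open Groth.Agent.Lib Groth.Agent.H87 Groth.Agent.H87.HomDS
open Groth.Agent.Lib.RedPts
open Groth.Agent.H13.FinAvg Groth.Agent.H13.FinAvg.Transporter

namespace Groth.Agent.H13.FinAvg

variable {S : Scheme.{u}}

/-- A power of an object. -/
theorem exists_power (C : Over S) [LocallyOfFinitePresentation C.hom] (n : ℕ) :
    ∃ (P : Over S) (pr : Fin n → (P ⟶ C)), LocallyOfFinitePresentation P.hom ∧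
      (∀ (T : Over S) (f : Fin n → (T ⟶ C)), ∃ z : T ⟶ P, ∀ k, z ≫ pr k = f k) ∧
      ∀ (T : Over S) (z z' : T ⟶ P), (∀ k, z ≫ pr k = z' ≫ pr k) → z = z' := by
  induction n with
  | zero =>
    exact ⟨𝟙_ (Over S), fun k => k.elim0, inferInstanceAs (LocallyOfFinitePresentation (𝟙 S)),
      fun T f => ⟨toUnit T, fun k => k.elim0⟩, fun T z z' _ => toUnit_unique z z'⟩
  | succ n ih =>
    obtain ⟨P, pr, hP, hex, hext⟩ := ih
    let p : Fin (n + 1) → (P ⊗ C ⟶ C) := fun k =>
      Fin.cases (motive := fun _ => P ⊗ C ⟶ C) (snd P C) (fun k => fst P C ≫ pr k) k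
    refine ⟨P ⊗ C, p, inferInstanceAs (LocallyOfFinitePresentation (pullback.fst P.hom C.hom ≫ P.hom)),
      fun T f => ?_, fun T z z' h => ?_⟩
    · obtain ⟨z, hz⟩ := hex T fun k => f k.succ
      refine ⟨lift z (f 0), fun k => ?_⟩
      induction k using Fin.cases with
      | zero => simp [p]
      | succ k => simp [p, hz]
    · refine CartesianMonoidalCategory.hom_ext _ _ (hext T _ _ fun k => ?_) (by simpa [p] using h 0)
      simpa [p] using h k.succ

/-- A natural number is a unit on `Spec A` when `Spec A` lands in its basic open. -/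
theorem isUnit_natCast {A : CommRingCat.{u}} (t : Spec A ⟶ S) (n : ℕ)
    (h : ∀ p, t p ∈ S.basicOpen (n : Γ(S, ⊤))) : IsUnit (n : A) := by
  by_contra hne
  obtain ⟨m, hm, hnm⟩ := exists_max_ideal_of_mem_nonunits (show (n : A) ∈ nonunits A from hne)
  have h1 : (⟨m, hm.isPrime⟩ : PrimeSpectrum A) ∈ t ⁻¹ᵁ S.basicOpen (n : Γ(S, ⊤)) := h _
  rw [Scheme.preimage_basicOpen_top, map_natCast] at h1
  have h2 : (n : Γ(Spec A, ⊤)) = (Scheme.ΓSpecIso A).inv (n : A) := (map_natCast _ n).symm
  rw [h2, basicOpen_eq_of_affine] at h1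
  exact h1 hnm

/-- The scheme of homomorphisms from a finite group of invertible order is smooth. -/
theorem exists_hom_scheme (C : Over S) [GrpObj C] [Smooth C.hom] [IsSeparated C.hom] (Γ : Type u) [Group Γ]
    [Fintype Γ] :
    ∃ (X : Over S) (τ : Γ →* (X ⟶ C)), Smooth X.hom ∧
      (∀ p, X.hom p ∈ S.basicOpen (Fintype.card Γ : Γ(S, ⊤))) ∧
      ∀ (T : Over S), (∀ p, T.hom p ∈ S.basicOpen (Fintype.card Γ : Γ(S, ⊤))) → ∀ v : Γ →* (T ⟶ C),
        ∃ z : T ⟶ X, ∀ a, z ≫ τ a = v a := by
  classical
  let U : S.Opens := S.basicOpen (Fintype.card Γ : Γ(S, ⊤))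
  obtain ⟨P, pr, hP, hex, hext⟩ := exists_power C (Fintype.card Γ)
  let e := Fintype.equivFin Γ
  let Uo : Over S := Over.mk U.ι
  haveI : LocallyOfFinitePresentation U.ι := inferInstance
  let W : Over S := P ⊗ Uo
  haveI : LocallyOfFinitePresentation W.hom := by
    haveI : LocallyOfFinitePresentation (pullback.fst P.hom Uo.hom) :=
      MorphismProperty.pullback_fst _ _ (inferInstanceAs (LocallyOfFinitePresentation U.ι))
    exact inferInstanceAs (LocallyOfFinitePresentation (pullback.fst P.hom Uo.hom ≫ P.hom))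
  let π : Γ → (W ⟶ C) := fun a => fst P Uo ≫ pr (e a)
  obtain ⟨X, y, hy, -, hyf, hiff⟩ := exists_eqs (C := C) (W := W)
    ((Finset.univ : Finset (Γ × Γ)).toList.map fun p => (π p.1 * π p.2, π (p.1 * p.2)))
  haveI := hy; haveI := hyf
  have hX : ∀ {T : Over S} (w : T ⟶ W), (∃ z, z ≫ y = w) ↔ ∀ a b, (w ≫ π a) * (w ≫ π b) = w ≫ π (a * b) := by
    intro T w
    rw [hiff]
    simp only [List.forall_mem_map, Finset.mem_toList, Finset.mem_univ, forall_const, MonObj.comp_mul, Prod.forall]
  have hU : ∀ p, X.hom p ∈ U := fun p => by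
    rw [← Over.w (y ≫ snd P Uo), Scheme.Hom.comp_apply]
    exact Subtype.prop _
  let τ : Γ →* (X ⟶ C) := MonoidHom.mk' (fun a => y ≫ π a) fun a b => ((hX y).1 ⟨𝟙 X, Category.id_comp y⟩ a b).symm
  have huniv : ∀ (T : Over S), (∀ p, T.hom p ∈ U) → ∀ v : Γ →* (T ⟶ C), ∃ z : T ⟶ X, ∀ a, z ≫ τ a = v a := by
    intro T hT v
    obtain ⟨z₀, hz₀⟩ := hex T fun k => v (e.symm k)
    let l : T ⟶ Uo := Over.homMk (IsOpenImmersion.lift U.ι T.hom (by
      rintro _ ⟨p, rfl⟩; exact (Scheme.Opens.range_ι U).ge (hT p))) (IsOpenImmersion.lift_fac _ _ _)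
    have hπ : ∀ a, lift z₀ l ≫ π a = v a := fun a => by simp [π, hz₀]
    obtain ⟨z, hz⟩ := (hX (lift z₀ l)).2 fun a b => by rw [hπ, hπ, hπ, map_mul]
    exact ⟨z, fun a => by rw [show τ a = y ≫ π a from rfl, reassoc_of% hz, hπ]⟩
  haveI : LocallyOfFinitePresentation X.hom := by rw [← Over.w y]; infer_instance
  refine ⟨X, τ, GrpSch.smooth_of_liftings X.hom fun A J hJ t c₀ hc₀ => ?_, hU, huniv⟩
  let z₀ : test t (MultAvg.mkA J) ⟶ X := Over.homMk c₀ hc₀
  have hp : ∀ p, t p ∈ U := fun p => by
    obtain ⟨p₀, hp₀⟩ : ∃ p₀, Spec.map (MultAvg.mkA J) p₀ = p := by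
      have : J ≤ p.asIdeal := fun a ha => by
        refine p.2.mem_of_pow_mem 2 ?_
        have : a ^ 2 ∈ J ^ 2 := Ideal.pow_mem_pow ha 2
        rw [hJ] at this
        rw [(Submodule.mem_bot A).1 this]
        exact zero_mem _
      have hr : p ∈ Set.range (PrimeSpectrum.comap (Ideal.Quotient.mk J)) := by
        rw [range_comap_of_surjective _ _ Ideal.Quotient.mk_surjective, Ideal.mk_ker]
        exact this
      exact hr
    have h1 : X.hom (c₀ p₀) ∈ U := hU _
    rw [← Scheme.Hom.comp_apply, hc₀, Scheme.Hom.comp_apply] at h1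
    rw [← hp₀]
    exact h1
  obtain ⟨v, hv⟩ := exists_hom_lift (K := C) (isUnit_natCast t _ hp) hJ
    (MonoidHom.mk' (fun a => z₀ ≫ τ a) fun a b => by rw [map_mul, MonObj.comp_mul])
  obtain ⟨z, hz⟩ := huniv (test t (𝟙 A)) (fun p => by
    show (Spec.map (𝟙 A) ≫ t) p ∈ U
    rw [Spec.map_id, Category.id_comp]; exact hp p) v
  have he : m₀ t J ≫ z = z₀ := by
    rw [← cancel_mono y]
    refine CartesianMonoidalCategory.hom_ext _ _ (hext _ _ _ fun k => ?_) ?_
    · have h1 := hv (e.symm k)
      rw [← hz] at h1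
      simpa [τ, π, Category.assoc] using h1
    · apply Over.OverMorphism.ext
      rw [← cancel_mono U.ι]
      exact (Over.w _).trans (Over.w ((z₀ ≫ y) ≫ snd P Uo)).symm
  exact ⟨z.left, by rw [Over.w z]; simp, congrArg CommaMorphism.left he⟩

/-- A point over a field sees properties of the residue field. -/
theorem fib_residue {P : MorphismProperty Scheme.{u}} [P.IsStableUnderBaseChange]
    [P.DescendsAlong (@Surjective ⊓ @Flat ⊓ @QuasiCompact)] {K : Type u} [Field K]
    (q : Spec (CommRingCat.of K) ⟶ S) {A B : Over S} (f : A ⟶ B) (h : P ((Over.pullback q).map f).left) :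
    ∃ x : S, q (IsLocalRing.closedPoint K) = x ∧ P ((Over.pullback (S.fromSpecResidueField x)).map f).left ∧
      P ((Over.pullback (Red.geomPt x)).map f).left := by
  obtain ⟨⟨x, φ⟩, hq⟩ := (Scheme.SpecToEquivOfField K S).symm.surjective q
  change Spec.map φ ≫ S.fromSpecResidueField x = q at hq
  subst hq
  haveI : Flat (Spec.map φ) := GrpSch.flat_of_isField (Field.toIsField _) _
  haveI : Surjective (Spec.map φ) := ⟨fun z => ⟨IsLocalRing.closedPoint _, Subsingleton.elim (α := PrimeSpectrum _) _ _⟩⟩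
  have h2 : Charts.Fib P (S.fromSpecResidueField x) f := Charts.fib_descend P _ h
  refine ⟨x, ?_, h2, Charts.fib_base P _ h2⟩
  rw [Scheme.Hom.comp_apply]
  exact S.fromSpecResidueField_apply x _

/-- Translation through a homomorphism. -/
theorem act_mul_act {A B : Over S} [GrpObj A] [GrpObj B] (z : A ⟶ B) [IsMonHom z] :
    (μ[A] ▷ B) ≫ ((fst A B ≫ z) * snd A B) =
      (α_ A A B).hom ≫ (A ◁ ((fst A B ≫ z) * snd A B)) ≫ ((fst A B ≫ z) * snd A B) := by
  conv_rhs => rw [MonObj.comp_mul, whiskerLeft_fst_assoc, whiskerLeft_snd]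
  rw [MonObj.comp_mul, whiskerRight_fst_assoc, whiskerRight_snd, MonObj.mul_eq_mul (M := A), MonObj.mul_comp,
    MonObj.comp_mul]
  simp [MonObj.comp_mul, _root_.mul_assoc]

theorem act_one_act {A B : Over S} [GrpObj A] [GrpObj B] (z : A ⟶ B) [IsMonHom z] :
    (η[A] ▷ B) ≫ ((fst A B ≫ z) * snd A B) = (λ_ B).hom := by
  rw [MonObj.comp_mul, whiskerRight_fst_assoc, whiskerRight_snd, Gm.η_eq_one, MonObj.one_comp, MonObj.comp_one,
    _root_.one_mul, leftUnitor_hom]

/-- A monomorphism of smooth groups that is flat at the unit over a point is an open immersion there. -/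
theorem exists_nhd_open {C D : Over S} [GrpObj C] [GrpObj D] [Smooth C.hom] [Smooth D.hom] (z : C ⟶ D) [IsMonHom z]
    [Mono z] (x : S) (h : IsIso ((Over.pullback (S.fromSpecResidueField x)).map z).left) :
    ∃ O : S.Opens, x ∈ O ∧ IsOpenImmersion ((Over.pullback O.ι).map z).left := by
  haveI : Mono z.left := inferInstanceAs (Mono ((Over.forget S).map z))
  haveI := Flat55.FibreTransfer.locallyOfFinitePresentation z.left D.hom (Over.w z)
  have sq := (Charts.isPullback_map (S.fromSpecResidueField x) z).flip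
  haveI : IsIso (sq.flip.isoPullback.hom ≫ pullback.snd z.left (pullback.fst D.hom (S.fromSpecResidueField x))) := by
    rw [sq.flip.isoPullback_hom_snd]; exact h
  have hs : IsIso (pullback.snd z.left (D.hom.fiberι x)) :=
    @IsIso.of_isIso_comp_left _ _ _ _ _ sq.flip.isoPullback.hom
      (pullback.snd z.left (pullback.fst D.hom (S.fromSpecResidueField x))) sq.flip.isoPullback.isIso_hom inferInstance
  let V := AdicFlat.Dvr.flatLocus z.left
  let O : S.Opens := η[C].left ⁻¹ᵁ V
  refine ⟨O, ?_, ?_⟩
  · show (z.left.stalkMap (η[C].left x)).hom.Flat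
    refine (Flat55.FibreTransfer.flat_stalkMap z.left D.hom (Over.w z) _ ?_).1
    have e : C.hom (η[C].left x) = x := by
      rw [← Scheme.Hom.comp_apply, Over.w η[C]]
      rfl
    rw [e]
    haveI := hs
    infer_instance
  let z' := (Over.pullback O.ι).map z
  haveI : Mono z' := inferInstanceAs (Mono ((Over.pullback O.ι).map z))
  haveI : IsMonHom z' := inferInstanceAs (IsMonHom ((Over.pullback O.ι).map z))
  haveI : Smooth (Red.bc O.ι C).hom := MorphismProperty.pullback_snd (P := @Smooth) _ _ inferInstance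
  haveI : Smooth (Red.bc O.ι D).hom := MorphismProperty.pullback_snd (P := @Smooth) _ _ inferInstance
  refine NormCartan.isOpenImmersion_of_geom_fibres z' fun t => ?_
  -- openness on a geometric fibre
  let b := Red.geomPt t ≫ O.ι
  have hb : IsOpenImmersion ((Over.pullback b).map z).left := by
    let K := AlgebraicClosure ((O : Scheme.{u}).residueField t)
    let zb := (Over.pullback b).map z
    haveI : Mono zb := inferInstanceAs (Mono ((Over.pullback b).map z))
    haveI : Mono zb.left := inferInstanceAs (Mono ((Over.forget _).map zb))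
    haveI : IsMonHom zb := inferInstanceAs (IsMonHom ((Over.pullback b).map z))
    haveI : Smooth (Red.bc b C).hom := MorphismProperty.pullback_snd (P := @Smooth) _ _ inferInstance
    haveI : Smooth (Red.bc b D).hom := MorphismProperty.pullback_snd (P := @Smooth) _ _ inferInstance
    let Vo : Over S := Over.mk (V.ι ≫ C.hom)
    let jv : Vo ⟶ C := Over.homMk V.ι rfl
    haveI : Flat (V.ι ≫ z.left) := AdicFlat.Dvr.flat_flatLocus z.left
    haveI : IsOpenImmersion (V.ι ≫ z.left) := IsOpenImmersion.of_flat_of_mono _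
    have h1 : IsOpenImmersion ((Over.pullback b).map (jv ≫ z)).left :=
      Charts.fib_of @IsOpenImmersion b (jv ≫ z) ‹IsOpenImmersion (V.ι ≫ z.left)›
    haveI h2 : IsOpenImmersion ((Over.pullback b).map jv).left :=
      Charts.fib_of @IsOpenImmersion b jv (inferInstanceAs (IsOpenImmersion V.ι))
    rw [Functor.map_comp, Over.comp_left] at h1
    haveI := h1
    let o : ↥(𝟙_ (Over (Spec (CommRingCat.of K)))).left := IsLocalRing.closedPoint K
    let e := η[Red.bc b C].left o
    have heV : pullback.fst C.hom b e ∈ V := by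
      have he : η[Red.bc b C].left ≫ pullback.fst C.hom b = b ≫ η[C].left := by
        have h : BC.down b (1 : 𝟙_ (Over (Spec (CommRingCat.of K))) ⟶ Red.bc b C) = 1 := BC.down_one
        rw [← one_eq_one, Hom.one_def] at h
        exact congrArg CommaMorphism.left h
      have h5 : (η[Red.bc b C].left ≫ pullback.fst C.hom b) o = (b ≫ η[C].left) o := congrArg (fun f => f o) he
      simp only [Scheme.Hom.comp_apply] at h5
      change pullback.fst C.hom b (η[Red.bc b C].left o) ∈ V
      rw [show pullback.fst C.hom b (η[Red.bc b C].left o) = η[C].left (b o) from h5]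
      exact (show b o ∈ O from by
        show (Red.geomPt t ≫ O.ι) o ∈ O
        rw [Scheme.Hom.comp_apply]
        exact Subtype.prop _)
    obtain ⟨e', he'⟩ : ∃ e', ((Over.pullback b).map jv).left e' = e := by
      have hr : e ∈ Set.range ((Over.pullback b).map jv).left.base := by
        have sq' := (Charts.isPullback_map b jv).flip
        rw [show Set.range ((Over.pullback b).map jv).left.base = pullback.fst C.hom b ⁻¹' Set.range jv.left.base from ?_]
        · exact ⟨⟨_, heV⟩, rfl⟩
        · ext w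
          constructor
          · rintro ⟨w', rfl⟩
            refine ⟨pullback.fst Vo.hom b w', ?_⟩
            have h5 := congrArg (fun f => f w') sq'.w
            simp only [Scheme.Hom.comp_apply] at h5
            first
              | exact h5
              | exact h5.symm
          · rintro ⟨v, hv⟩
            obtain ⟨p, hp⟩ := Scheme.Pullback.exists_preimage_pullback
              (f := jv.left) (g := pullback.fst C.hom b) v w hv
            refine ⟨sq'.flip.isoPullback.inv p, ?_⟩
            have h5 := congrArg (fun f => f p) sq'.flip.isoPullback_inv_snd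
            simp only [Scheme.Hom.comp_apply] at h5
            exact h5.trans hp.2
      exact hr
    let j := ((Over.pullback b).map jv).left
    haveI : IsIso (j.stalkMap e') := inferInstance
    haveI : IsIso ((j ≫ zb.left).stalkMap e') := inferInstance
    have hflat : (zb.left.stalkMap (j e')).hom.Flat := by
      have h3 : (zb.left.stalkMap (j e')) = (j ≫ zb.left).stalkMap e' ≫ CategoryTheory.inv (j.stalkMap e') := by
        rw [IsIso.eq_comp_inv, Scheme.Hom.stalkMap_comp]
      rw [h3]
      exact RingHom.Flat.of_bijective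
        (ConcreteCategory.bijective_of_isIso ((j ≫ zb.left).stalkMap e' ≫ CategoryTheory.inv (j.stalkMap e')))
    rw [show j e' = e from he'] at hflat
    let act : AlgGrp.Action (Red.bc b C) (Red.bc b D) :=
      { act := (fst _ _ ≫ zb) * snd _ _
        one_act := act_one_act zb
        mul_act := act_mul_act zb }
    refine GrpSch.UnitOpen.isOpenImmersion_of_flat_at_one act zb ?_ o hflat
    show (Red.bc b C ◁ zb) ≫ ((fst _ _ ≫ zb) * snd _ _) = μ[Red.bc b C] ≫ zb
    rw [MonObj.comp_mul, whiskerLeft_fst_assoc, whiskerLeft_snd, ← MonObj.mul_comp, MonObj.mul_eq_mul]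
  exact (Charts.fib_comp @IsOpenImmersion (Red.geomPt t) O.ι z).1 hb

section Main

variable {G H C M : Over S} [GrpObj G] [GrpObj H] [GrpObj C] {i : H ⟶ G} {c : C ⟶ G} {m : M ⟶ G}

/-- The transporter commutes with base change. -/
theorem into_bc (hM : ∀ {X : Over S} (g : X ⟶ G), (∃ z, z ≫ m = g) ↔ Into i c g) {S' : Scheme.{u}} (f : S' ⟶ S)
    {X : Over S'} (g : X ⟶ Red.bc f G) :
    (∃ z, z ≫ (Over.pullback f).map m = g) ↔ Into ((Over.pullback f).map i) ((Over.pullback f).map c) g := by
  constructor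
  · rintro ⟨z, rfl⟩ X' x y
    obtain ⟨κ, hκ⟩ := (hM (BC.down f z ≫ m)).1 ⟨_, rfl⟩ _ ((Over.map f).map x) (BC.down f y)
    refine ⟨BC.up f κ, BC.down_injective ?_⟩
    rw [BC.down_mul, BC.down_mul, BC.down_inv, BC.down_comp, BC.down_map, BC.down_map, BC.down_map, BC.down_up]
    exact hκ
  · intro hg
    obtain ⟨z, hz⟩ := (hM (BC.down f g)).2 fun X'' x y => by
      let Y : Over S' := Over.mk (x.left ≫ X.hom)
      let ε : (Over.map f).obj Y ≅ X'' := Over.isoMk (Iso.refl _) (by
        have := Over.w x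
        simp [Y] at this ⊢
        exact this.symm)
      let xY : Y ⟶ X := Over.homMk x.left rfl
      obtain ⟨κ, hκ⟩ := hg Y xY (BC.up f (ε.hom ≫ y))
      refine ⟨ε.inv ≫ BC.down f κ, ?_⟩
      have hx : (Over.map f).map xY = ε.hom ≫ x := by
        apply Over.OverMorphism.ext
        simp [xY, ε]
      have h1 := congrArg (fun w => ε.inv ≫ BC.down f w) hκ
      rw [BC.down_mul, BC.down_mul, BC.down_inv, BC.down_map, BC.down_map, BC.down_comp, BC.down_up, hx] at h1
      simp only [MonObj.comp_mul, GrpObj.comp_inv, Category.assoc, Iso.inv_hom_id_assoc] at h1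
      simpa only [Category.assoc] using h1
    exact ⟨BC.up f z, BC.down_injective (by rw [BC.down_map, BC.down_up, hz])⟩

variable [Smooth G.hom] [IsSeparated G.hom] [QuasiCompact G.hom] [Smooth H.hom] [Smooth C.hom]
  [GeometricallyConnected G.hom] [GeometricallyConnected C.hom] [IsMonHom i] [Mono i] [IsMonHom c] [Mono c]
  [LocallyOfFinitePresentation M.hom] [Mono m]

/-- Near every point, after a smooth base change the transporter is smooth. -/
theorem exists_smooth_nhd (hc : SGA3x.IsCartan c)
    (hM : ∀ {X : Over S} (g : X ⟶ G), (∃ z, z ≫ m = g) ↔ Into i c g) (s : S) :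
    ∃ (S' : Scheme.{u}) (f : S' ⟶ S) (x : S'), Smooth f ∧ f x = s ∧ Smooth (pullback.snd M.hom f) := by
  haveI : Mono c.left := inferInstanceAs (Mono ((Over.forget S).map c))
  haveI : IsSeparated C.hom := by rw [← Over.w c]; infer_instance
  let K := AlgebraicClosure (S.residueField s)
  let b : Spec (CommRingCat.of K) ⟶ S := Red.geomPt s
  haveI : Smooth (Red.bc b G).hom := MorphismProperty.pullback_snd (P := @Smooth) _ _ inferInstance
  haveI : QuasiCompact (Red.bc b G).hom := MorphismProperty.pullback_snd (P := @QuasiCompact) _ _ inferInstance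
  haveI : IsSeparated (Red.bc b G).hom := MorphismProperty.pullback_snd (P := @IsSeparated) _ _ inferInstance
  haveI : Smooth (Red.bc b C).hom := MorphismProperty.pullback_snd (P := @Smooth) _ _ inferInstance
  haveI : ConnectedSpace ↥(Red.bc b G).left :=
    GeometricallyConnected.geometrically_connectedSpace _ _ _ (IsPullback.of_hasPullback G.hom b)
  obtain ⟨Γ₀, _, _, σb, hcard, hcent, hfac⟩ := exists_finite_subgroup (hc.2.2.2 s)
  obtain ⟨X, τ, hXs, hXU, huniv⟩ := exists_hom_scheme C Γ₀
  haveI := hXs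
  -- the point of the scheme of homomorphisms
  let vb : Γ₀ →* (Over.mk b ⟶ C) := MonoidHom.mk' (fun a => (SmWeil.unitIso b).inv ≫ BC.down b (σb a)) fun a a' => by
    rw [map_mul, BC.down_mul, MonObj.comp_mul]
  have hbU : ∀ p, b p ∈ S.basicOpen (Fintype.card Γ₀ : Γ(S, ⊤)) := fun p => by
    show p ∈ b ⁻¹ᵁ S.basicOpen (Fintype.card Γ₀ : Γ(S, ⊤))
    rw [Scheme.preimage_basicOpen_top, map_natCast,
      ← map_natCast (Scheme.ΓSpecIso (CommRingCat.of K)).inv.hom, basicOpen_eq_of_affine]
    intro hp
    exact p.2.ne_top (Ideal.eq_top_of_isUnit_mem _ hp hcard.isUnit)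
  obtain ⟨zb, hzb⟩ := huniv (Over.mk b) hbU vb
  let q : Spec (CommRingCat.of K) ⟶ X.left := zb.left
  have hq : q ≫ X.hom = b := Over.w zb
  -- the tautological family
  let f := X.hom
  let τ' : Γ₀ → (Over.mk f ⟶ C) := fun a => Over.homMk (τ a).left (Over.w (τ a))
  let σ₁ : Γ₀ →* (𝟙_ (Over X.left) ⟶ Red.bc f C) := MonoidHom.mk' (fun a => SmWeil.ptUp f (τ' a)) fun a a' => by
    simp only [SmWeil.ptUp]
    rw [← BC.up_mul, ← MonObj.comp_mul]
    congr 2
    apply Over.OverMorphism.ext
    show (τ (a * a')).left = _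
    rw [map_mul]
    rfl
  let c₁ : Red.bc f C ⟶ Red.bc f G := (Over.pullback f).map c
  haveI : IsMonHom c₁ := inferInstanceAs (IsMonHom ((Over.pullback f).map c))
  haveI : Mono c₁ := inferInstanceAs (Mono ((Over.pullback f).map c))
  haveI : Smooth (Red.bc f G).hom := MorphismProperty.pullback_snd (P := @Smooth) _ _ inferInstance
  haveI : Smooth (Red.bc f C).hom := MorphismProperty.pullback_snd (P := @Smooth) _ _ inferInstance
  haveI : IsSeparated (Red.bc f G).hom := MorphismProperty.pullback_snd (P := @IsSeparated) _ _ inferInstance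
  haveI : IsSeparated (Red.bc f C).hom := MorphismProperty.pullback_snd (P := @IsSeparated) _ _ inferInstance
  haveI : GeometricallyConnected (Red.bc f C).hom :=
    inferInstanceAs (GeometricallyConnected (pullback.snd C.hom f))
  have hunit : ∀ (A : CommRingCat.{u}) (_ : Spec A ⟶ X.left), IsUnit (Fintype.card Γ₀ : A) := fun A t =>
    isUnit_natCast (t ≫ f) _ fun p => by rw [Scheme.Hom.comp_apply]; exact hXU _
  let σG : Γ₀ →* (𝟙_ (Over X.left) ⟶ Red.bc f G) := MonoidHom.mk' (fun a => σ₁ a ≫ c₁) fun a a' => by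
    rw [map_mul, MonObj.mul_comp]
  obtain ⟨D, _, d, hdm, hdmono, -, hDs, hD⟩ := exists_centralizer σG hunit
  obtain ⟨E, _, ec, hem, hemono, -, hEs, hE⟩ := exists_centralizer σ₁ hunit
  haveI := hdm; haveI := hdmono; haveI := hDs; haveI := hem; haveI := hemono; haveI := hEs
  -- the tautological family at the point
  have hpt : ∀ (Y : Over (Spec (CommRingCat.of K))) (ε : (Over.map f).obj ((Over.map q).obj Y) ⟶ (Over.map b).obj Y),
      ε.left = 𝟙 Y.left → ∀ a, BC.down f (toUnit ((Over.map q).obj Y) ≫ σ₁ a) = ε ≫ BC.down b (toUnit Y ≫ σb a) := by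
    intro Y ε hε a
    rw [show σ₁ a = SmWeil.ptUp f (τ' a) from rfl, SmWeil.down_toUnit_ptUp, BC.down_comp]
    have e1 : BC.down b (σb a) = (SmWeil.unitIso b).hom ≫ zb ≫ τ a := by
      rw [hzb a]; simp [vb]
    rw [e1]
    apply Over.OverMorphism.ext
    simp [τ', SmWeil.unitIso, hε, q]
  let εh : ∀ Y : Over (Spec (CommRingCat.of K)), (Over.map f).obj ((Over.map q).obj Y) ≅ (Over.map b).obj Y :=
    fun Y => Over.isoMk (Iso.refl _) (by
      show 𝟙 _ ≫ Y.hom ≫ b = (Y.hom ≫ q) ≫ f
      rw [Category.id_comp, Category.assoc, hq])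
  have hεh : ∀ Y, (εh Y).hom.left = 𝟙 Y.left := fun Y => rfl
  -- `E = C` and `C = D` over the point
  have hcomm : ∀ (Y : Over (Spec (CommRingCat.of K))) (y : (Over.map q).obj Y ⟶ Red.bc f C) (a : Γ₀),
      Commute y (toUnit ((Over.map q).obj Y) ≫ σ₁ a) := fun Y y a => by
    have h1 := hcent Y (BC.up b ((εh Y).inv ≫ BC.down f y)) a
    have h2 := congrArg (fun w => (εh Y).hom ≫ BC.down b w) h1.eq
    simp only [BC.down_mul, MonObj.comp_mul, BC.down_up, Iso.hom_inv_id_assoc] at h2
    rw [← hpt Y (εh Y).hom (hεh Y) a] at h2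
    refine BC.down_injective ?_
    rw [BC.down_mul, BC.down_mul]
    exact h2
  have hEq : IsIso ((Over.pullback q).map ec) := by
    let Y := Red.bc q (Red.bc f C)
    let y := BC.down q (𝟙 Y)
    obtain ⟨w, hw⟩ := (hE y).2 fun a => hcomm Y y a
    haveI : Mono ((Over.pullback q).map ec) := inferInstance
    exact SmWeil.CartanTorus.isIso_of_split _ (BC.up q w)
      (BC.down_injective (by rw [BC.down_map, BC.down_up, hw]))
  obtain ⟨z, hz⟩ := (hD (ec ≫ c₁)).2 fun a => by
    have h1 := congrArg (· ≫ c₁) ((hE ec).1 ⟨𝟙 E, Category.id_comp _⟩ a).eq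
    simpa [commute_iff_eq, MonObj.mul_comp, σG] using h1
  haveI : IsMonHom (z ≫ d) := by rw [hz]; infer_instance
  haveI : IsMonHom z := SmWeil.MaxTorusBC.isMonHom_of_mono_comp z d
  haveI : Mono z := mono_of_mono_fac hz
  have hzq : IsIso ((Over.pullback q).map z) := by
    let Y := Red.bc q D
    let y := BC.down q (𝟙 Y) ≫ d
    have hy := (hD y).1 ⟨_, rfl⟩
    obtain ⟨yb, hyb⟩ := hfac Y (BC.up b ((εh Y).inv ≫ BC.down f y)) fun a => by
      have h1 := congrArg (fun w => (εh Y).inv ≫ BC.down f w) (hy a).eq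
      have e : BC.down b (toUnit Y ≫ σb a ≫ (Over.pullback b).map c) =
          (εh Y).inv ≫ BC.down f (toUnit ((Over.map q).obj Y) ≫ σG a) := by
        rw [show σG a = σ₁ a ≫ c₁ from rfl, ← Category.assoc (toUnit ((Over.map q).obj Y)), BC.down_map,
          hpt Y (εh Y).hom (hεh Y) a, Category.assoc, Iso.inv_hom_id_assoc,
          ← Category.assoc (toUnit Y), BC.down_map]
      refine BC.down_injective ?_
      rw [BC.down_mul, BC.down_mul, BC.down_up, e]
      simpa only [BC.down_mul, MonObj.comp_mul] using h1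
    let κ : (Over.map q).obj Y ⟶ Red.bc f C := BC.up f ((εh Y).hom ≫ BC.down b yb)
    have hκ : κ ≫ c₁ = y := by
      refine BC.down_injective ?_
      have h2 := congrArg (fun w => (εh Y).hom ≫ BC.down b w) hyb
      rw [BC.down_map, BC.down_up, Category.assoc]
      erw [BC.down_map] at h2
      simpa only [BC.down_up, Iso.hom_inv_id_assoc] using h2
    obtain ⟨w, hw⟩ := (hE κ).2 fun a => hcomm Y κ a
    haveI : Mono ((Over.pullback q).map z) := inferInstance
    have hwz : w ≫ z = BC.down q (𝟙 Y) := by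
      rw [← cancel_mono d, Category.assoc, hz, reassoc_of% hw, hκ]
    exact SmWeil.CartanTorus.isIso_of_split _ (BC.up q w)
      (BC.down_injective (by rw [BC.down_map, BC.down_up, hwz]))
  obtain ⟨x, hx, -, hgeo⟩ := fib_residue (P := MorphismProperty.isomorphisms Scheme.{u}) q ec
    (haveI := hEq; inferInstanceAs (IsIso ((Over.forget _).map ((Over.pullback q).map ec))))
  obtain ⟨x', hx', hres, -⟩ := fib_residue (P := MorphismProperty.isomorphisms Scheme.{u}) q z
    (haveI := hzq; inferInstanceAs (IsIso ((Over.forget _).map ((Over.pullback q).map z))))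
  obtain rfl : x' = x := hx'.symm.trans hx
  haveI : IsIso ((Over.pullback (Red.geomPt x')).map ec) := by
    haveI : IsIso ((Over.forget _).map ((Over.pullback (Red.geomPt x')).map ec)) := hgeo
    exact isIso_of_reflects_iso _ (Over.forget _)
  obtain ⟨O₁, hxO₁, hiso₁⟩ := SmWeil.CartanOpen.exists_nhd_iso ec x' inferInstance
  obtain ⟨O₂, hxO₂, hopen₂⟩ := exists_nhd_open z x' hres
  let O : X.left.Opens := O₁ ⊓ O₂
  let j := O.ι
  have hec : IsIso ((Over.pullback j).map ec) := by
    have h1 : Charts.Fib (MorphismProperty.isomorphisms Scheme.{u}) O₁.ι ec :=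
      haveI := hiso₁
      inferInstanceAs (IsIso ((Over.forget _).map ((Over.pullback O₁.ι).map ec)))
    have h2 := Charts.fib_base _ (X.left.homOfLE (inf_le_left : O ≤ O₁)) h1
    rw [Scheme.homOfLE_ι] at h2
    haveI : IsIso ((Over.forget _).map ((Over.pullback j).map ec)) := h2
    exact isIso_of_reflects_iso _ (Over.forget _)
  haveI := hec
  haveI hzO : IsOpenImmersion ((Over.pullback j).map z).left := by
    have h2 := Charts.fib_base (@IsOpenImmersion) (X.left.homOfLE (inf_le_right : O ≤ O₂)) (t := O₂.ι) (u := z) hopen₂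
    rw [Scheme.homOfLE_ι] at h2
    exact h2
  let c₂ : Red.bc j (Red.bc f C) ⟶ Red.bc j (Red.bc f G) := (Over.pullback j).map c₁
  haveI : IsMonHom c₂ := inferInstanceAs (IsMonHom ((Over.pullback j).map c₁))
  haveI : Mono c₂ := inferInstanceAs (Mono ((Over.pullback j).map c₁))
  let σ₂ : Γ₀ →* (𝟙_ (Over (O : Scheme.{u})) ⟶ Red.bc j (Red.bc f C)) :=
    MonoidHom.mk' (fun a => BC.up j (toUnit _ ≫ σ₁ a)) fun a a' => by
      rw [map_mul, MonObj.comp_mul, BC.up_mul]
  have hσ₂ : ∀ (Y : Over (O : Scheme.{u})) a,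
      BC.down j (toUnit Y ≫ σ₂ a) = toUnit ((Over.map j).obj Y) ≫ σ₁ a := fun Y a => by
    rw [show σ₂ a = BC.up j (toUnit _ ≫ σ₁ a) from rfl, BC.down_comp, BC.down_up, ← Category.assoc,
      toUnit_unique ((Over.map j).map (toUnit Y) ≫ toUnit _) (toUnit _)]
  have hecc : (Over.pullback j).map ec ≫ c₂ = (Over.pullback j).map z ≫ (Over.pullback j).map d := by
    simp only [c₂, ← Functor.map_comp, hz]
  let R : Rigid c₂ :=
    { Γ := Γ₀
      grp := inferInstance
      fin := inferInstance
      σ := σ₂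
      comm := fun Y y a => by
        let u := y ≫ inv ((Over.pullback j).map ec)
        have hu : BC.down j u ≫ ec = BC.down j y := by
          rw [← BC.down_map]; simp [u]
        have h1 := (hE (BC.down j y)).1 ⟨_, hu⟩ a
        refine BC.down_injective ?_
        rw [BC.down_mul, BC.down_mul, hσ₂]
        exact h1.eq
      unit := fun A t => hunit A (t ≫ j)
      lifts := fun A t J hJ k y₀ hk hcomm => by
        let P := test t (𝟙 A)
        obtain ⟨kd, hkd⟩ := (hD (BC.down j k)).2 fun a => by
          have h1 := congrArg (BC.down j) (hcomm a).eq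
          have e : BC.down j (toUnit P ≫ σ₂ a ≫ c₂) = toUnit ((Over.map j).obj P) ≫ σG a := by
            rw [← Category.assoc (toUnit P), BC.down_map, hσ₂, Category.assoc]
            rfl
          rw [BC.down_mul, BC.down_mul, e] at h1
          exact h1
        let k' : P ⟶ Red.bc j D := BC.up j kd
        have hk' : k' ≫ (Over.pullback j).map d = k :=
          BC.down_injective (by rw [BC.down_map, BC.down_up, hkd])
        let e₀ := y₀ ≫ inv ((Over.pullback j).map ec)
        have he₀ : e₀ ≫ (Over.pullback j).map z = m₀ t J ≫ k' := by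
          rw [← cancel_mono ((Over.pullback j).map d)]
          simp only [Category.assoc, hk', ← hecc, hk, e₀, IsIso.inv_hom_id_assoc]
        let zO : Red.bc j E ⟶ Red.bc j D := (Over.pullback j).map z
        haveI : IsOpenImmersion zO.left := hzO
        have hrange : Set.range k'.left.base ⊆ Set.range zO.left.base := by
          rintro _ ⟨p, rfl⟩
          obtain ⟨p₀, hp₀⟩ : p ∈ Set.range (Spec.map (MultAvg.mkA J)).base := by
            have : J ≤ p.asIdeal := fun a ha => by
              refine p.2.mem_of_pow_mem 2 ?_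
              have : a ^ 2 ∈ J ^ 2 := Ideal.pow_mem_pow ha 2
              rw [hJ] at this
              rw [(Submodule.mem_bot A).1 this]
              exact zero_mem _
            have hr : p ∈ Set.range (PrimeSpectrum.comap (Ideal.Quotient.mk J)) := by
              rw [range_comap_of_surjective _ _ Ideal.Quotient.mk_surjective, Ideal.mk_ker]
              exact this
            exact hr
          refine ⟨e₀.left p₀, ?_⟩
          have h5 := congrArg (fun w => w.left p₀) he₀
          simp only [Over.comp_left, Scheme.Hom.comp_apply] at h5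
          rw [← hp₀]
          exact h5
        let e : P ⟶ Red.bc j E := Over.homMk (IsOpenImmersion.lift zO.left k'.left hrange) (by
          rw [← Over.w zO, IsOpenImmersion.lift_fac_assoc, Over.w k'])
        have he : e ≫ (Over.pullback j).map z = k' :=
          Over.OverMorphism.ext (IsOpenImmersion.lift_fac _ _ _)
        exact ⟨e ≫ (Over.pullback j).map ec, by rw [Category.assoc, hecc, reassoc_of% he, hk']⟩ }
  let i₂ : Red.bc j (Red.bc f H) ⟶ Red.bc j (Red.bc f G) := (Over.pullback j).map ((Over.pullback f).map i)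
  haveI : IsMonHom i₂ := inferInstanceAs (IsMonHom ((Over.pullback j).map ((Over.pullback f).map i)))
  haveI : Mono i₂ := inferInstanceAs (Mono ((Over.pullback j).map ((Over.pullback f).map i)))
  haveI : Smooth (Red.bc j (Red.bc f G)).hom := MorphismProperty.pullback_snd (P := @Smooth) _ _ inferInstance
  haveI : Smooth (Red.bc f H).hom := MorphismProperty.pullback_snd (P := @Smooth) _ _ inferInstance
  haveI : Smooth (Red.bc j (Red.bc f H)).hom := MorphismProperty.pullback_snd (P := @Smooth) _ _ inferInstance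
  haveI : Smooth (Red.bc j (Red.bc f C)).hom := MorphismProperty.pullback_snd (P := @Smooth) _ _ inferInstance
  haveI : LocallyOfFinitePresentation (Red.bc f M).hom :=
    MorphismProperty.pullback_snd (P := @LocallyOfFinitePresentation) _ _ inferInstance
  haveI : LocallyOfFinitePresentation (Red.bc j (Red.bc f M)).hom :=
    MorphismProperty.pullback_snd (P := @LocallyOfFinitePresentation) _ _ inferInstance
  have hsm : Smooth (Red.bc j (Red.bc f M)).hom :=
    Transporter.smooth_transporter (i := i₂) R ((Over.pullback j).map ((Over.pullback f).map m))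
      (fun g => into_bc (fun g' => into_bc hM f g') j g)
  refine ⟨(O : Scheme.{u}), j ≫ f, ⟨x', hxO₁, hxO₂⟩, inferInstance, ?_, ?_⟩
  · rw [Scheme.Hom.comp_apply]
    show f x' = s
    rw [← hx, ← Scheme.Hom.comp_apply, hq]
    exact S.fromSpecResidueField_apply s _
  · have h3 : Smooth (pullback.snd (pullback.snd M.hom f) j) := hsm
    rw [← pullbackLeftPullbackSndIso_hom_snd M.hom f j] at h3
    exact (MorphismProperty.cancel_left_of_respectsIso @Smooth _ _).1 h3

/-- **The transporter of a Cartan subgroup into a smooth subgroup is smooth.** -/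
theorem smooth_transporter_cartan (hc : SGA3x.IsCartan c)
    (hM : ∀ {X : Over S} (g : X ⟶ G), (∃ z, z ≫ m = g) ↔ Into i c g) : Smooth M.hom := by
  refine IsZariskiLocalAtTarget.of_forall_exists_morphismRestrict fun s => ?_
  obtain ⟨S', f, x, hf, hfx, hsm⟩ := exists_smooth_nhd hc hM s
  haveI := hf
  obtain ⟨U, hU, hsU, -⟩ := exists_isAffineOpen_mem_and_subset (X := S) (x := s) (U := ⊤) trivial
  obtain ⟨W, hW, hxW, hWU⟩ := exists_isAffineOpen_mem_and_subset (X := S') (x := x) (U := f ⁻¹ᵁ U)
    (show f x ∈ U by rw [hfx]; exact hsU)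
  let g : (W : Scheme.{u}) ⟶ (U : Scheme.{u}) := IsOpenImmersion.lift U.ι (W.ι ≫ f) (by
    rintro _ ⟨p, rfl⟩
    exact (Scheme.Opens.range_ι U).ge (hWU p.2))
  have hg : g ≫ U.ι = W.ι ≫ f := IsOpenImmersion.lift_fac _ _ _
  haveI : IsAffine (W : Scheme.{u}) := hW
  haveI : IsAffine (U : Scheme.{u}) := hU
  haveI : Smooth (g ≫ U.ι) := by rw [hg]; infer_instance
  haveI : Smooth g := by
    have : IsPullback (𝟙 (W : Scheme.{u})) g (g ≫ U.ι) U.ι :=
      ⟨⟨by simp⟩, ⟨PullbackCone.IsLimit.mk _ (fun s => s.fst) (fun s => Category.comp_id _)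
        (fun s => by rw [← cancel_mono U.ι, Category.assoc]; exact s.condition)
        (fun s m h1 _ => by simpa using h1)⟩⟩
    exact MorphismProperty.of_isPullback this inferInstance
  obtain ⟨D, hD, hsD, hDle⟩ := exists_isAffineOpen_mem_and_subset (X := S) (x := s)
    (U := ⟨U.ι '' Set.range g, U.ι.isOpenMap _ g.isOpenMap.isOpen_range⟩) (by
      refine ⟨g ⟨x, hxW⟩, ⟨_, rfl⟩, ?_⟩
      rw [← Scheme.Hom.comp_apply, hg, Scheme.Hom.comp_apply]
      exact hfx)
  refine ⟨D, hsD, ?_⟩
  have hDU : D ≤ U := fun p hp => by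
    obtain ⟨q, -, rfl⟩ := hDle hp
    exact q.2
  let p : pullback g (S.homOfLE hDU) ⟶ (D : Scheme.{u}) := pullback.snd g (S.homOfLE hDU)
  let r : pullback g (S.homOfLE hDU) ⟶ S' := pullback.fst g (S.homOfLE hDU) ≫ W.ι
  haveI : Surjective p := ⟨fun d => by
    obtain ⟨u', ⟨w, rfl⟩, hw⟩ := hDle d.2
    have he : g w = S.homOfLE hDU d := U.ι.injective (by
      rw [hw, ← Scheme.Hom.comp_apply, Scheme.homOfLE_ι]
      rfl)
    obtain ⟨y, hy⟩ := Scheme.Pullback.exists_preimage_pullback (f := g) (g := S.homOfLE hDU) w d he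
    exact ⟨y, hy.2⟩⟩
  have hpr : p ≫ D.ι = r ≫ f := by
    simp only [p, r, Category.assoc, ← hg]
    rw [pullback.condition_assoc, Scheme.homOfLE_ι]
  have h1 : Smooth (pullback.snd M.hom (r ≫ f)) := by
    haveI := hsm
    rw [← pullbackLeftPullbackSndIso_inv_snd_snd]
    exact (MorphismProperty.cancel_left_of_respectsIso @Smooth _ _).2 (MorphismProperty.pullback_snd _ _ hsm)
  rw [← hpr, ← pullbackLeftPullbackSndIso_inv_snd_snd, MorphismProperty.cancel_left_of_respectsIso @Smooth] at h1
  have h2 : Smooth (pullback.snd M.hom D.ι) :=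
    MorphismProperty.of_isPullback_of_descendsAlong (P := @Smooth) (Q := @Surjective ⊓ @Flat ⊓ @QuasiCompact)
      (IsPullback.of_hasPullback (pullback.snd M.hom D.ι) p).flip ⟨⟨inferInstance, inferInstance⟩, inferInstance⟩ h1
  rw [← (isPullback_morphismRestrict M.hom D).flip.isoPullback_hom_snd]
  exact (MorphismProperty.cancel_left_of_respectsIso @Smooth _ _).2 h2

end Main

end Groth.Agent.H13.FinAvg
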