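import Groth.Agent.H13.FinAvg.Avg
import Groth.Agent.Lib.SmWeil.CartanSolvable
import Groth.Agent.Lib.SmWeil.CartanSub
import Groth.Agent.Lib.SmWeil.TorusCentConn
import Groth.Agent.H87.TorusIn
import Groth.Prelude.Def_SGA3x
import Mathlib.RingTheory.RootsOfUnity.EnoughRootsOfUnity
import Mathlib.LinearAlgebra.LinearIndependent.Lemmas

/-!
# Finite subgroups of a Cartan subgroup with the same centralizer
-/

set_option autoImplicit false
set_option linter.style.haveILetI false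
set_option linter.unusedSectionVars false
set_option backward.isDefEq.respectTransparency false
set_option synthInstance.maxHeartbeats 200000
set_option maxHeartbeats 1000000

universe u

open CategoryTheory CategoryTheory.Limits AlgebraicGeometry MonoidalCategory CartesianMonoidalCategory
open CategoryTheory.MonObj CategoryTheory.GrpObj
open Groth.Agent.Lib Groth.Agent.H87 Groth.Agent.H87.HomDS
open Groth.Agent.Lib.RedPts
open Groth.Agent.H87.Locus (toG)

namespace Groth.Agent.H13.FinAvg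

section Eqs

variable {S : Scheme.{u}} {W C : Over S} [IsSeparated C.hom] [LocallyOfFiniteType C.hom]

/-- The locus where finitely many pairs of maps agree. -/
theorem exists_eqs (l : List ((W ⟶ C) × (W ⟶ C))) :
    ∃ (Y : Over S) (y : Y ⟶ W), Mono y ∧ IsClosedImmersion y.left ∧ LocallyOfFinitePresentation y.left ∧
      ∀ {T : Over S} (w : T ⟶ W), (∃ z, z ≫ y = w) ↔ ∀ p ∈ l, w ≫ p.1 = w ≫ p.2 := by
  induction l with
  | nil =>
    refine ⟨W, 𝟙 W, inferInstance, ?_, ?_, fun w => ⟨fun _ p hp => absurd hp (List.not_mem_nil), fun _ => ⟨w, Category.comp_id w⟩⟩⟩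
    · show IsClosedImmersion (𝟙 W.left); infer_instance
    · show LocallyOfFinitePresentation (𝟙 W.left); infer_instance
  | cons p l ih =>
    obtain ⟨Y, y, hy, hyc, hyf, hiff⟩ := ih
    let Δ : C ⟶ C ⊗ C := lift (𝟙 C) (𝟙 C)
    haveI : Mono Δ := by
      haveI : IsSplitMono Δ := ⟨⟨fst C C, lift_fst _ _⟩⟩
      infer_instance
    have hΔ : IsClosedImmersion Δ.left ∧ LocallyOfFinitePresentation Δ.left := by
      have e : Δ.left = pullback.diagonal C.hom := by
        refine pullback.hom_ext ?_ ?_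
        · show Δ.left ≫ (fst C C).left = _
          rw [← Over.comp_left, lift_fst, pullback.diagonal_fst]
          rfl
        · show Δ.left ≫ (snd C C).left = _
          rw [← Over.comp_left, lift_snd, pullback.diagonal_snd]
          rfl
      refine ⟨?_, (SmWeil.diag_props (G := C)).2⟩
      rw [e]
      infer_instance
    obtain ⟨Y', y', hy', hy'f, hy'c, hiff'⟩ := SmWeil.exists_preimage_mono (lift (y ≫ p.1) (y ≫ p.2)) Δ
    haveI := hy'c hΔ.1
    haveI := hy'f hΔ.2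
    refine ⟨Y', y' ≫ y, mono_comp _ _, inferInstanceAs (IsClosedImmersion (y'.left ≫ y.left)),
      inferInstanceAs (LocallyOfFinitePresentation (y'.left ≫ y.left)), fun {T} w => ?_⟩
    constructor
    · rintro ⟨z, rfl⟩ p' hp'
      rcases List.mem_cons.1 hp' with rfl | hmem
      · obtain ⟨κ, hκ⟩ := (hiff' (z ≫ y')).1 ⟨z, rfl⟩
        have h1 := congrArg (· ≫ fst C C) hκ
        have h2 := congrArg (· ≫ snd C C) hκ
        simp only [Δ, Category.assoc, lift_fst, lift_snd, Category.comp_id] at h1 h2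
        simp only [Category.assoc]
        rw [← h1, ← h2]
      · simpa only [Category.assoc] using (hiff (z ≫ y' ≫ y)).1 ⟨z ≫ y', Category.assoc _ _ _⟩ p' hmem
    · intro h
      obtain ⟨v, hv⟩ := (hiff w).2 fun p' hp' => h p' (List.mem_cons_of_mem _ hp')
      obtain ⟨z, hz⟩ := (hiff' v).2 ⟨w ≫ p.1, by
        simp only [Δ, comp_lift, Category.comp_id, ← Category.assoc, hv, h p (List.mem_cons_self ..)]⟩
      exact ⟨z, by rw [reassoc_of% hz, hv]⟩

end Eqs

section Cent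

variable {S : Scheme.{u}} {G : Over S} [GrpObj G] [IsSeparated G.hom] [Smooth G.hom]
  {Γ : Type u} [Group Γ] [Fintype Γ]

/-- The centralizer of a finite group of points of invertible order is a smooth closed subgroup. -/
theorem exists_centralizer (σ : Γ →* (𝟙_ (Over S) ⟶ G))
    (hn : ∀ (A : CommRingCat.{u}) (_ : Spec A ⟶ S), IsUnit (Fintype.card Γ : A)) :
    ∃ (D : Over S) (_ : GrpObj D) (d : D ⟶ G), IsMonHom d ∧ Mono d ∧ IsClosedImmersion d.left ∧ Smooth D.hom ∧
      ∀ {X : Over S} (g : X ⟶ G), (∃ z, z ≫ d = g) ↔ ∀ a, Commute g (toUnit X ≫ σ a) := by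
  classical
  obtain ⟨D, d, hd, hdc, hdf, hiff⟩ := exists_eqs (C := G) (W := G) ((Finset.univ : Finset Γ).toList.map fun a =>
    ((𝟙 G : G ⟶ G) * (toUnit G ≫ σ a), (toUnit G ≫ σ a) * (𝟙 G : G ⟶ G)))
  haveI := hd; haveI := hdc; haveI := hdf
  have hD : ∀ {X : Over S} (g : X ⟶ G), (∃ z, z ≫ d = g) ↔ ∀ a, Commute g (toUnit X ≫ σ a) := by
    intro X g
    rw [hiff]
    simp only [List.forall_mem_map, Finset.mem_toList, Finset.mem_univ, forall_const, MonObj.comp_mul,
      Category.comp_id, ← Category.assoc, toUnit_unique (g ≫ toUnit G) (toUnit X), commute_iff_eq]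
  obtain ⟨hg, hm⟩ := FreeRes.exists_grpObj_of_mono d
    (fun T => (hD 1).2 fun a => Commute.one_left _)
    (fun {T} a b => (hD _).2 fun e => ((hD _).1 ⟨a, rfl⟩ e).mul_left ((hD _).1 ⟨b, rfl⟩ e))
    (fun {T} a => (hD _).2 fun e => ((hD _).1 ⟨a, rfl⟩ e).inv_left)
  refine ⟨D, hg, d, hm, hd, hdc, ?_, fun g => hD g⟩
  haveI : LocallyOfFinitePresentation D.hom := by rw [← Over.w d]; infer_instance
  refine GrpSch.smooth_of_liftings D.hom fun A J hJ t c₀ hc₀ => ?_
  let z₀ : test t (MultAvg.mkA J) ⟶ D := Over.homMk c₀ hc₀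
  let u : Γ →* (test t (𝟙 A) ⟶ G) := MonoidHom.mk' (fun a => toUnit _ ≫ σ a) fun a b => by
    rw [map_mul, MonObj.comp_mul]
  obtain ⟨g, hg', hrel⟩ := exists_conj_lift (K := G) (hn A t) hJ u u (z₀ ≫ d) fun a => by
    show (z₀ ≫ d) * (m₀ t J ≫ toUnit _ ≫ σ a) * (z₀ ≫ d)⁻¹ = m₀ t J ≫ toUnit _ ≫ σ a
    rw [← Category.assoc, toUnit_unique (m₀ t J ≫ toUnit _) (toUnit _),
      ((hD (z₀ ≫ d)).1 ⟨z₀, rfl⟩ a).eq, mul_inv_cancel_right]
  obtain ⟨z, hz⟩ := (hD g).2 fun a => mul_inv_eq_iff_eq_mul.1 (hrel a)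
  refine ⟨z.left, by rw [Over.w z]; simp, ?_⟩
  haveI : Mono d.left := inferInstanceAs (Mono ((Over.forget S).map d))
  rw [← cancel_mono d.left, Category.assoc, ← Over.comp_left, hz]
  exact congrArg CommaMorphism.left hg'

end Cent

section Field

variable {K : Type u} [Field K] [IsAlgClosed K]

/-- The group of torsion parameters. -/
abbrev Tor (K : Type u) [Field K] (r n : ℕ) : Type u := Fin r → rootsOfUnity n K

/-- The character of a torsion parameter. -/
noncomputable def chTor {r n : ℕ} (v : Tor K r n) : Multiplicative (Fin r → ℤ) →* K where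
  toFun m := ∏ l, (((v l : Kˣ) ^ (m.toAdd l) : Kˣ) : K)
  map_one' := by simp
  map_mul' a b := by
    rw [← Finset.prod_mul_distrib]
    exact Finset.prod_congr rfl fun l _ => by rw [toAdd_mul, Pi.add_apply, zpow_add, Units.val_mul]

theorem chTor_mul {r n : ℕ} (v w : Tor K r n) : chTor (v * w) = chTor v * chTor w :=
  MonoidHom.ext fun m => by
    simp only [chTor, MonoidHom.mul_apply, MonoidHom.coe_mk, OneHom.coe_mk, ← Finset.prod_mul_distrib]
    exact Finset.prod_congr rfl fun l _ => by rw [Pi.mul_apply, Subgroup.coe_mul, mul_zpow, Units.val_mul]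

/-- The torsion point of a parameter. -/
noncomputable def torPt {r n : ℕ} (v : Tor K r n) :
    test (𝟙 (Spec (CommRingCat.of K))) (𝟙 (CommRingCat.of K)) ⟶ Red.DS (Spec (CommRingCat.of K)) (Fin r → ℤ) :=
  evHom (𝟙 _) (Fin r → ℤ) (𝟙 _) (chTor v) ≫ univPt (𝟙 _) (Fin r → ℤ)

theorem torPt_mul {r n : ℕ} (v w : Tor K r n) : torPt (v * w) = torPt v * torPt w :=
  Gm.dsFn_ext fun m => by
    simp only [torPt, Gm.dsFn_mul, dsFn_evHom, chTor_mul, MonoidHom.mul_apply, map_mul]

/-- Maps out of a split torus agreeing on the torsion points of `ℓ`-power order agree. -/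
theorem eq_of_torsion {Z : Over (Spec (CommRingCat.of K))} [IsSeparated Z.hom] {r ℓ : ℕ} (hℓ : ℓ.Prime)
    (hℓK : (ℓ : K) ≠ 0) (a b : Red.DS (Spec (CommRingCat.of K)) (Fin r → ℤ) ⟶ Z)
    (h : ∀ (e : ℕ) (v : Tor K r (ℓ ^ e)), torPt v ≫ a = torPt v ≫ b) : a = b := by
  classical
  let X := Red.DS (Spec (CommRingCat.of K)) (Fin r → ℤ)
  let t : Spec (CommRingCat.of K) ⟶ Spec (CommRingCat.of K) := 𝟙 _
  let M := Fin r → ℤ
  suffices hu : univPt t M ≫ a = univPt t M ≫ b by
    obtain ⟨w, hw⟩ := exists_fac t M X.hom (Category.comp_id _) (𝟙 X)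
    have := congrArg (w ≫ ·) hu
    simpa only [reassoc_of% hw] using this
  obtain ⟨I, hI⟩ := EqLocus.exists_eq_ideal (univPt t M ≫ a).left (univPt t M ≫ b).left Z.hom
    ((Over.w (univPt t M ≫ a)).trans (Over.w (univPt t M ≫ b)).symm)
  have hI0 : I ≤ RingHom.ker (𝟙 (ring (A := CommRingCat.of K) M) : _ ⟶ _).hom := by
    intro x hx
    show x = 0
    have hsum : ∀ (e : ℕ) (v : Tor K r (ℓ ^ e)), ∑ m ∈ x.coeff.support, x.coeff m * chTor v m = 0 := fun e v => by
      have e1 : evHom t M (𝟙 _) (chTor v) ≫ univPt t M ≫ a = evHom t M (𝟙 _) (chTor v) ≫ univPt t M ≫ b := by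
        simpa only [torPt, Category.assoc] using h e v
      have h1 := (hI _ (Locus.ev (𝟙 (CommRingCat.of K)) (chTor v))).1 (congrArg CommaMorphism.left e1) hx
      rw [RingHom.mem_ker, ← x.sum_coeff_single, Finsupp.sum, map_sum] at h1
      refine Eq.trans (Finset.sum_congr rfl fun m _ => ?_) h1
      simp [Locus.ev, MonoidAlgebra.liftNCRingHom]
      exact Or.inl rfl
    -- evaluation at the monomials is linearly independent
    let Ch : Type u := Σ e : ℕ, Tor K r (ℓ ^ e)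
    let F : Submonoid (Multiplicative M →* K) :=
      { carrier := {c | ∃ (e : ℕ) (v : Tor K r (ℓ ^ e)), chTor v = c}
        one_mem' := ⟨0, 1, MonoidHom.ext fun m => by simp [chTor]⟩
        mul_mem' := by
          rintro _ _ ⟨e, v, rfl⟩ ⟨e', v', rfl⟩
          have hv : ∀ (e : ℕ) (v : Tor K r (ℓ ^ e)) (d : ℕ), e ≤ d → ∀ l, (v l : Kˣ) ∈ rootsOfUnity (ℓ ^ d) K :=
            fun e v d hd l => rootsOfUnity_le_of_dvd (pow_dvd_pow ℓ hd) (v l).2
          refine ⟨e + e', (fun l => ⟨(v l : Kˣ), hv e v _ (Nat.le_add_right ..) l⟩) *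
            (fun l => ⟨(v' l : Kˣ), hv e' v' _ (Nat.le_add_left ..) l⟩), ?_⟩
          rw [chTor_mul]
          rfl }
    let evm : Multiplicative M → (F →* K) := fun m =>
      { toFun := fun c => (c : Multiplicative M →* K) m, map_one' := rfl, map_mul' := fun _ _ => rfl }
    have hinj : Function.Injective evm := by
      intro m m' hm
      refine Multiplicative.toAdd.injective (funext fun l => ?_)
      let e := (m.toAdd l - m'.toAdd l).natAbs + 1
      haveI : NeZero ((ℓ ^ e : ℕ) : K) := ⟨by simpa using pow_ne_zero e hℓK⟩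
      obtain ⟨ζ, hζ⟩ := HasEnoughRootsOfUnity.exists_primitiveRoot K (ℓ ^ e)
      have hn0 : ℓ ^ e ≠ 0 := pow_ne_zero _ hℓ.ne_zero
      let z : rootsOfUnity (ℓ ^ e) K := ⟨(hζ.isUnit hn0).unit, by
        rw [mem_rootsOfUnity]; exact Units.ext (by simp [hζ.pow_eq_one])⟩
      let v : Tor K r (ℓ ^ e) := Pi.mulSingle l z
      have hval : ∀ m : Multiplicative M, chTor v m = (((z : Kˣ) ^ (m.toAdd l) : Kˣ) : K) := fun m => by
        simp only [chTor, MonoidHom.coe_mk, OneHom.coe_mk]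
        rw [Finset.prod_eq_single l (fun j _ hj => by simp [v, Pi.mulSingle_eq_of_ne hj])
          (fun hl => absurd (Finset.mem_univ l) hl)]
        simp [v]
        try rfl
      have h1 := congrArg (fun f : F →* K => f ⟨chTor v, e, v, rfl⟩) hm
      have h2 : chTor v m = chTor v m' := h1
      rw [hval, hval, Units.val_inj, ← mul_inv_eq_one, ← zpow_neg, ← zpow_add, ← sub_eq_add_neg] at h2
      have h3 : ((ℓ ^ e : ℕ) : ℤ) ∣ m.toAdd l - m'.toAdd l :=
        (hζ.zpow_eq_one_iff_dvd _).1 (by simpa [z, Units.ext_iff] using h2)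
      have h4 : (m.toAdd l - m'.toAdd l).natAbs < ℓ ^ e :=
        lt_of_lt_of_le (Nat.lt_succ_self _) (Nat.lt_pow_self hℓ.one_lt).le
      have := Nat.eq_zero_of_dvd_of_lt (Int.natCast_dvd.1 h3) h4
      omega
    have hli := (linearIndependent_monoidHom F K).comp evm hinj
    rw [linearIndependent_iff'] at hli
    refine MonoidAlgebra.coeff_injective (Finsupp.ext fun m => ?_)
    by_cases hm : m ∈ x.coeff.support
    · have h0 := hli x.coeff.support (fun m => x.coeff m) (funext fun c => by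
        obtain ⟨_, e, v, rfl⟩ := c
        simpa [evm] using hsum e v) m hm
      simpa using h0
    · simpa [Finsupp.notMem_support_iff] using hm
  have h2 := (hI _ (𝟙 _)).2 hI0
  rw [Spec.map_id, Category.id_comp, Category.id_comp] at h2
  exact Over.OverMorphism.ext h2

/-- The unit object as a test object. -/
noncomputable def ptIso :
    𝟙_ (Over (Spec (CommRingCat.of K))) ≅ test (𝟙 (Spec (CommRingCat.of K))) (𝟙 (CommRingCat.of K)) :=
  Over.isoMk (Iso.refl _) (by
    show 𝟙 _ ≫ Spec.map (𝟙 _) ≫ 𝟙 _ = 𝟙 _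
    simp)

/-- **A Cartan subgroup is the centralizer of a finite central subgroup of points of invertible order.** -/
theorem exists_finite_subgroup {G C : Over (Spec (CommRingCat.of K))} [GrpObj G] [GrpObj C] [Smooth G.hom]
    [QuasiCompact G.hom] [IsSeparated G.hom] [ConnectedSpace G.left] [Smooth C.hom] {c : C ⟶ G}
    (hc : SGA3x.IsCartanOver K c) :
    ∃ (Γ : Type u) (_ : Group Γ) (_ : Fintype Γ) (σ : Γ →* (𝟙_ (Over (Spec (CommRingCat.of K))) ⟶ C)),
      (Fintype.card Γ : K) ≠ 0 ∧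
      (∀ (X : Over (Spec (CommRingCat.of K))) (y : X ⟶ C) (a : Γ), Commute y (toUnit X ≫ σ a)) ∧
      ∀ (X : Over (Spec (CommRingCat.of K))) (g : X ⟶ G),
        (∀ a, Commute g (toUnit X ≫ σ a ≫ c)) → ∃ y, y ≫ c = g := by
  classical
  obtain ⟨hcm, hcmono, T, _, iT, hT, hcu⟩ := hc
  haveI := hcm
  haveI := hT.1
  haveI := hT.2.1
  haveI := (SmWeil.connectedSpace_centralizer hT.2.2.1 iT c hcu).1
  obtain ⟨r, ⟨e⟩⟩ := TorusIn.exists_split T hT.2.2.1
  let eo := Tori.BaseChange.overIso e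
  haveI : IsMonHom eo.hom := Tori.BaseChange.isMonHom_overIso e
  haveI : IsMonHom eo.inv := SmWeil.CartanAux.isMonHom_inv eo ‹IsMonHom eo.hom›
  let a : Red.DS (Spec (CommRingCat.of K)) (Fin r → ℤ) ⟶ G := eo.inv ≫ iT
  obtain ⟨aC, haC⟩ := (hcu.2.2 _ a).2 fun X x h => by
    simp only [a, ← Category.assoc]
    rw [← MonObj.mul_comp, ← MonObj.mul_comp, Lib.Tori.Comm.mul_comm_of_isTorus hT.2.2.1]
  haveI : IsMonHom (aC ≫ c) := by rw [haC]; infer_instance
  haveI : IsMonHom aC := SmWeil.MaxTorusBC.isMonHom_of_mono_comp aC c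
  obtain ⟨ℓ, hℓ, hℓK⟩ : ∃ q : ℕ, q.Prime ∧ (q : K) ≠ 0 := by
    by_cases h2 : ((2 : ℕ) : K) = 0
    · refine ⟨3, Nat.prime_three, fun h3 => one_ne_zero (α := K) ?_⟩
      have : ((3 : ℕ) : K) - ((2 : ℕ) : K) = 1 := by norm_num
      rw [← this, h2, h3, sub_zero]
    · exact ⟨2, Nat.prime_two, h2⟩
  haveI : ∀ e, NeZero (ℓ ^ e) := fun e => ⟨pow_ne_zero _ hℓ.ne_zero⟩
  let σ : ∀ e, Tor K r (ℓ ^ e) →* (𝟙_ (Over (Spec (CommRingCat.of K))) ⟶ C) := fun e =>
    MonoidHom.mk' (fun v => ptIso.hom ≫ torPt v ≫ aC) fun v w => by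
      rw [torPt_mul, MonObj.mul_comp, MonObj.comp_mul]
  letI : ∀ e, Fintype (Tor K r (ℓ ^ e)) := fun e => Fintype.ofFinite _
  have hcard : ∀ e, (Fintype.card (Tor K r (ℓ ^ e)) : K) ≠ 0 := fun e => by
    haveI : NeZero ((ℓ ^ e : ℕ) : K) := ⟨by simpa using pow_ne_zero e hℓK⟩
    rw [← Nat.card_eq_fintype_card, Nat.card_fun, HasEnoughRootsOfUnity.natCard_rootsOfUnity K (ℓ ^ e)]
    simpa using pow_ne_zero _ (pow_ne_zero e hℓK)
  have hcentral : ∀ (X : Over (Spec (CommRingCat.of K))) (y : X ⟶ C) (e : ℕ) (v : Tor K r (ℓ ^ e)),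
      Commute y (toUnit X ≫ σ e v) := fun X y e v => by
    have h1 := (hcu.2.2 X (y ≫ c)).1 ⟨y, rfl⟩ X (𝟙 X) (toUnit X ≫ ptIso.hom ≫ torPt v ≫ eo.inv)
    rw [commute_iff_eq, ← cancel_mono c, MonObj.mul_comp, MonObj.mul_comp]
    simpa [σ, haC, a] using h1
  let σG : ∀ e, Tor K r (ℓ ^ e) →* (𝟙_ (Over (Spec (CommRingCat.of K))) ⟶ G) := fun e =>
    MonoidHom.mk' (fun v => σ e v ≫ c) fun v w => by rw [map_mul, MonObj.mul_comp]
  have hunit : ∀ e (A : CommRingCat.{u}) (_ : Spec A ⟶ Spec (CommRingCat.of K)),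
      IsUnit (Fintype.card (Tor K r (ℓ ^ e)) : A) := fun e A f => by
    obtain ⟨φ, rfl⟩ := Spec.map_surjective f
    rw [← map_natCast φ.hom]
    exact (hcard e).isUnit.map φ.hom
  choose D hDg d hdm hdmono hdc hDs hD using fun e => exists_centralizer (σG e) (hunit e)
  haveI : IsLocallyNoetherian G.left := LocallyOfFiniteType.isLocallyNoetherian G.hom
  haveI : CompactSpace G.left := QuasiCompact.compactSpace_of_compactSpace G.hom
  haveI : IsNoetherian G.left := ⟨⟩
  let Z : ℕ → TopologicalSpace.Closeds G.left := fun e =>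
    ⟨Set.range (d e).left, (haveI := hdc e; (d e).left.isClosedEmbedding.isClosed_range)⟩
  obtain ⟨-, ⟨e₀, rfl⟩, hmin⟩ := wellFounded_lt.has_min (Set.range Z) ⟨_, 0, rfl⟩
  refine ⟨Tor K r (ℓ ^ e₀), inferInstance, inferInstance, σ e₀, hcard e₀, fun X y v => hcentral X y e₀ v,
    fun X g hg => ?_⟩
  haveI := hDs e₀
  haveI := hdc e₀
  haveI : IsReduced (D e₀).left := GrpSch.isReduced_of_smooth_field (D e₀).hom
  haveI : QuasiCompact (D e₀).hom := by rw [← Over.w (d e₀)]; infer_instance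
  obtain ⟨z, hz⟩ := (hD e₀ g).2 fun v => hg v
  suffices hf : ∃ f : D e₀ ⟶ C, f ≫ c = d e₀ by
    obtain ⟨f, hf⟩ := hf
    exact ⟨z ≫ f, by rw [Category.assoc, hf, hz]⟩
  refine SmWeil.CartanSolvable.exists_fac_of_points c (d e₀) fun p => ?_
  -- the rational points of the centralizer centralize all torsion
  have hall : ∀ e (v : Tor K r (ℓ ^ e)), Commute (p ≫ d e₀) (σG e v) := by
    intro e v
    have hsub : ∀ (e' : ℕ) (w : Tor K r (ℓ ^ e')), e' ≤ e₀ + e →
        ∃ w' : Tor K r (ℓ ^ (e₀ + e)), σG (e₀ + e) w' = σG e' w := fun e' w he => by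
      refine ⟨fun l => ⟨(w l : Kˣ), rootsOfUnity_le_of_dvd (pow_dvd_pow ℓ he) (w l).2⟩, ?_⟩
      rfl
    obtain ⟨ι', hι'⟩ := (hD e₀ (d (e₀ + e))).2 fun w => by
      obtain ⟨w', hw'⟩ := hsub e₀ w (Nat.le_add_right ..)
      rw [← hw']
      exact (hD (e₀ + e) (d (e₀ + e))).1 ⟨𝟙 _, Category.id_comp _⟩ w'
    have hle : Z (e₀ + e) ≤ Z e₀ := by
      rintro _ ⟨x, rfl⟩
      exact ⟨ι'.left x, by rw [← Scheme.Hom.comp_apply, ← Over.comp_left, hι']⟩
    have heq : Z (e₀ + e) = Z e₀ := eq_of_le_of_not_lt hle (hmin _ ⟨_, rfl⟩)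
    let o : ↥(𝟙_ (Over (Spec (CommRingCat.of K)))).left := IsLocalRing.closedPoint K
    have hmem : (p ≫ d e₀).left o ∈ (Z (e₀ + e) : Set G.left) := by
      rw [heq]
      exact ⟨p.left o, (Scheme.Hom.comp_apply _ _ o).symm⟩
    haveI := hdc (e₀ + e)
    haveI : LocallyOfFiniteType (D (e₀ + e)).hom := by rw [← Over.w (d (e₀ + e))]; infer_instance
    haveI : QuasiCompact (D (e₀ + e)).hom := by rw [← Over.w (d (e₀ + e))]; infer_instance
    obtain ⟨p', hp'⟩ : ∃ p' : 𝟙_ (Over (Spec (CommRingCat.of K))) ⟶ D (e₀ + e), p' ≫ d (e₀ + e) = p ≫ d e₀ := by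
      obtain ⟨x, hx⟩ := GrpSch.exists_point_mem (W := (d (e₀ + e)).left ⁻¹' {(p ≫ d e₀).left o})
        ((GrpSch.rational_isClosed (p ≫ d e₀) o).preimage (d (e₀ + e)).left.continuous)
        (by obtain ⟨x, hx⟩ := hmem; exact ⟨x, hx⟩)
      exact ⟨x, Over.OverMorphism.ext (ext_of_apply_closedPoint_eq G.hom (Over.w _) (Over.w _) (hx ⟨o, rfl⟩))⟩
    obtain ⟨w', hw'⟩ := hsub e v (Nat.le_add_left ..)
    have h1 := (hD (e₀ + e) (p' ≫ d (e₀ + e))).1 ⟨p', rfl⟩ w'
    rw [hp', hw'] at h1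
    simpa [toUnit_unique (toUnit (𝟙_ (Over (Spec (CommRingCat.of K))))) (𝟙 _)] using h1
  let gp := p ≫ d e₀
  have hab : a = (toUnit _ ≫ gp) * a * (toUnit _ ≫ gp)⁻¹ := by
    refine eq_of_torsion hℓ hℓK _ _ fun e v => ?_
    rw [← cancel_epi ptIso.hom]
    simp only [MonObj.comp_mul, GrpObj.comp_inv]
    simp only [← Category.assoc, toUnit_unique ((ptIso.hom ≫ torPt v) ≫ toUnit _) (𝟙 _), Category.id_comp]
    have h1 : ptIso.hom ≫ torPt v ≫ a = σG e v := by
      simp [σG, σ, haC]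
    simp only [← Category.assoc] at h1
    rw [h1]
    exact ((hall e v).mul_inv_cancel).symm
  refine (hcu.2.2 _ gp).2 fun X' x h => ?_
  have h1 := congrArg (fun w => (h ≫ eo.hom) ≫ w) hab
  simp only [MonObj.comp_mul, GrpObj.comp_inv, a, Category.assoc, eo.hom_inv_id_assoc] at h1
  simp only [← Category.assoc, toUnit_unique ((h ≫ eo.hom) ≫ toUnit _) (toUnit X')] at h1
  rw [toUnit_unique x (toUnit X')]
  rw [eq_mul_inv_iff_mul_eq] at h1
  exact h1.symm

end Field

end Groth.Agent.H13.FinAvg
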