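import Groth.Agent.H13.FinAvg.Cartan

/-!
# Cartan subgroups on the summands of a disjoint union glue
-/

set_option autoImplicit false
set_option linter.style.haveILetI false
set_option linter.unusedSectionVars false
set_option backward.isDefEq.respectTransparency false
set_option synthInstance.maxHeartbeats 200000
set_option maxHeartbeats 1000000

universe u

open CategoryTheory CategoryTheory.Limits AlgebraicGeometry MonoidalCategory CartesianMonoidalCategory
open CategoryTheory.MonObj CategoryTheory.GrpObj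
open Groth.Agent.Lib Groth.Agent.H87 Groth.Agent.H87.HomDS
open Groth.Agent.Lib.RedPts
open Groth.Agent.H13.FinAvg Groth.Agent.H13.FinAvg.Transporter

namespace Groth.Agent.H13.FinAvg

variable {S : Scheme.{u}}

/-- **Cartan subgroups on the summands glue.** -/
theorem exists_glue_cartan {κ : Type u} {P : κ → Scheme.{u}} {G : Over (∐ P)} [GrpObj G] [Smooth G.hom]
    [IsSeparated G.hom] {C : ∀ k, Over (P k)} [∀ k, GrpObj (C k)] (c : ∀ k, C k ⟶ Red.bc (Sigma.ι P k) G)
    (hc : ∀ k, SGA3x.IsCartan (c k)) :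
    ∃ (T : Over (∐ P)) (_ : GrpObj T) (n : T ⟶ G), SGA3x.IsCartan n := by
  haveI : ∀ k, IsMonHom (c k) := fun k => (hc k).1
  haveI : ∀ k, Mono (c k) := fun k => (hc k).2.1
  let D : κ → Scheme.{u} := fun k => (C k).left
  let π : ∀ k, D k ⟶ ∐ P := fun k => (C k).hom ≫ Sigma.ι P k
  let T : Over (∐ P) := Over.mk (Sigma.desc π)
  let inc : ∀ k, (Over.map (Sigma.ι P k)).obj (C k) ⟶ T := fun k => Over.homMk (Sigma.ι D k) (by
    simp [T, π])
  let n : T ⟶ G := Over.homMk (Sigma.desc fun k => (BC.down (Sigma.ι P k) (c k)).left) (Sigma.hom_ext _ _ fun k => by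
    rw [← Category.assoc, Sigma.ι_desc, Over.w (BC.down (Sigma.ι P k) (c k))]
    show _ = Sigma.ι D k ≫ Sigma.desc π
    rw [Sigma.ι_desc]; rfl)
  have hincn : ∀ k, inc k ≫ n = BC.down (Sigma.ι P k) (c k) := fun k =>
    Over.OverMorphism.ext (Sigma.ι_desc (fun k => (BC.down (Sigma.ι P k) (c k)).left) k)
  have hL : ∀ k (Y : Over (P k)) (y : (Over.map (Sigma.ι P k)).obj Y ⟶ T),
      ∃ y' : Y ⟶ C k, y = (Over.map (Sigma.ι P k)).map y' ≫ inc k := by
    intro k Y y
    have hrange : Set.range y.left.base ⊆ Set.range (Sigma.ι D k).base := by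
      rintro _ ⟨p, rfl⟩
      obtain ⟨l, d, hd⟩ := (sigmaOpenCover D).exists_eq (y.left p)
      change Sigma.ι D l d = y.left p at hd
      by_cases hkl : l = k
      · subst hkl; exact ⟨d, hd⟩
      exfalso
      have h1 : (Sigma.ι P l) ((C l).hom d) = (Sigma.ι P k) (Y.hom p) := by
        have h2 := congrArg (fun f => f p) (Over.w y)
        simp only [Scheme.Hom.comp_apply] at h2
        rw [← hd] at h2
        refine Eq.trans ?_ h2
        have h3 := congrArg (fun f => f d) (Sigma.ι_desc π l)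
        simp only [Scheme.Hom.comp_apply] at h3
        exact h3.symm
      exact Set.disjoint_iff.1 ((TopologicalSpace.Opens.coe_disjoint).2 (disjoint_opensRange_sigmaι P l k hkl))
        ⟨⟨_, rfl⟩, ⟨_, h1.symm⟩⟩
    let l := IsOpenImmersion.lift (Sigma.ι D k) y.left hrange
    have hl : l ≫ Sigma.ι D k = y.left := IsOpenImmersion.lift_fac _ _ _
    refine ⟨Over.homMk l ?_, Over.OverMorphism.ext hl.symm⟩
    rw [← cancel_mono (Sigma.ι P k), Category.assoc]
    have := Over.w y
    rw [← hl, Category.assoc] at this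
    simpa [T, π] using this
  have hcover : ∀ (W : Over (∐ P)) (X : Scheme.{u}) (a b : W.left ⟶ X),
      (∀ k, (BC.down (Sigma.ι P k) (𝟙 (Red.bc (Sigma.ι P k) W))).left ≫ a =
        (BC.down (Sigma.ι P k) (𝟙 (Red.bc (Sigma.ι P k) W))).left ≫ b) → a = b := fun W X a b h => by
    refine Scheme.Cover.hom_ext ((sigmaOpenCover P).pullback₁ W.hom) _ _ fun k => ?_
    have := h k
    simp only [BC.down_left, Over.id_left, Category.id_comp] at this
    exact this
  haveI : Mono n := ⟨fun {W} a b hab => Over.OverMorphism.ext (hcover W _ _ _ fun k => by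
    let y := BC.down (Sigma.ι P k) (𝟙 (Red.bc (Sigma.ι P k) W))
    obtain ⟨a', ha⟩ := hL k _ (y ≫ a)
    obtain ⟨b', hb⟩ := hL k _ (y ≫ b)
    have : a' = b' := by
      rw [← cancel_mono (c k)]
      refine BC.down_injective ?_
      rw [BC.down_comp, BC.down_comp, ← hincn, ← reassoc_of% ha, ← reassoc_of% hb, hab]
    subst this
    exact congrArg CommaMorphism.left (ha.trans hb.symm))⟩
  haveI : Mono n.left := inferInstanceAs (Mono ((Over.forget _).map n))
  let Crit : ∀ {W : Over (∐ P)}, (W ⟶ G) → Prop := fun {W} g => ∀ k (Y : Over (P k))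
    (y : (Over.map (Sigma.ι P k)).obj Y ⟶ W), ∃ y' : Y ⟶ C k, y' ≫ c k = BC.up (Sigma.ι P k) (y ≫ g)
  have hcrit : ∀ {W : Over (∐ P)} (g : W ⟶ G), (∃ r, r ≫ n = g) ↔ Crit g := by
    intro W g
    constructor
    · rintro ⟨r, rfl⟩ k Y y
      obtain ⟨y', hy⟩ := hL k Y (y ≫ r)
      refine ⟨y', BC.down_injective ?_⟩
      rw [BC.down_up, BC.down_comp, ← hincn, ← reassoc_of% hy]
    · intro hg
      choose y' hy' using fun k => hg k _ (BC.down (Sigma.ι P k) (𝟙 (Red.bc (Sigma.ι P k) W)))
      let 𝒰 := (sigmaOpenCover P).pullback₁ W.hom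
      let φ : ∀ k, 𝒰.X k ⟶ T.left := fun k => ((Over.map (Sigma.ι P k)).map (y' k) ≫ inc k).left
      have hφ : ∀ k, φ k ≫ n.left = 𝒰.f k ≫ g.left := fun k => by
        have h1 := congrArg (fun w => (BC.down (Sigma.ι P k) w).left) (hy' k)
        simp only [BC.down_up, BC.down_comp, ← hincn, Over.comp_left, BC.down_left, Over.id_left,
          Category.id_comp] at h1
        simp only [φ, Over.comp_left, Category.assoc]
        exact h1
      have hcompat : ∀ i j, pullback.fst (𝒰.f i) (𝒰.f j) ≫ φ i = pullback.snd (𝒰.f i) (𝒰.f j) ≫ φ j := fun i j => by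
        rw [← cancel_mono n.left, Category.assoc, Category.assoc, hφ, hφ, ← Category.assoc, ← Category.assoc,
          pullback.condition]
      obtain ⟨r, hr₀⟩ : ∃ r, ∀ k, 𝒰.f k ≫ r = φ k :=
        ⟨Scheme.Cover.glueMorphisms 𝒰 φ hcompat, fun k => Scheme.Cover.ι_glueMorphisms 𝒰 φ hcompat k⟩
      have hr : r ≫ n.left = g.left := Scheme.Cover.hom_ext 𝒰 _ _ fun k => by
        rw [← Category.assoc, hr₀, hφ]
      refine ⟨Over.homMk r ?_, Over.OverMorphism.ext hr⟩
      rw [← Over.w n, ← Category.assoc, hr, Over.w g]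
  have hP : ∀ {W : Over (∐ P)} (a : W ⟶ T), Crit (a ≫ n) := fun a => (hcrit _).1 ⟨a, rfl⟩
  obtain ⟨gT, hnm⟩ := FreeRes.exists_grpObj_of_mono n
    (fun W => (hcrit 1).2 fun k Y y => ⟨1, by
      rw [MonObj.one_comp, MonObj.comp_one]
      exact BC.down_injective (by rw [BC.down_up, BC.down_one])⟩)
    (fun {W} a b => (hcrit _).2 fun k Y y => by
      obtain ⟨p, hp⟩ := hP a k Y y
      obtain ⟨q, hq⟩ := hP b k Y y
      exact ⟨p * q, by rw [MonObj.mul_comp, hp, hq, ← BC.up_mul, MonObj.comp_mul]⟩)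
    (fun {W} a => (hcrit _).2 fun k Y y => by
      obtain ⟨p, hp⟩ := hP a k Y y
      refine ⟨p⁻¹, BC.down_injective ?_⟩
      rw [GrpObj.inv_comp, BC.down_inv, hp, BC.down_up, BC.down_up, GrpObj.comp_inv])
  haveI := hnm
  haveI : Smooth T.hom := by
    haveI : IsZariskiLocalAtSource @Smooth.{u} := HasRingHomProperty.instIsZariskiLocalAtSource (P := @Smooth) (Q := RingHom.Smooth)
    refine IsZariskiLocalAtSource.sigmaDesc fun k => ?_
    haveI := (hc k).2.2.1
    exact inferInstanceAs (Smooth ((C k).hom ≫ Sigma.ι P k))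
  refine ⟨T, gT, n, hnm, inferInstance, inferInstance, fun t => ?_⟩
  obtain ⟨k, p, rfl⟩ := (sigmaOpenCover P).exists_eq t
  let jk := Sigma.ι P k
  obtain ⟨a, ha⟩ := hL k _ (BC.down jk (𝟙 (Red.bc jk T)))
  have han : a ≫ c k = (Over.pullback jk).map n := by
    refine BC.down_injective ?_
    rw [BC.down_comp, ← hincn, ← reassoc_of% ha, ← BC.down_map, Category.id_comp]
  have hinv : BC.up jk (inc k) ≫ (Over.pullback jk).map n = c k :=
    BC.down_injective (by rw [BC.down_map, BC.down_up, hincn])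
  let e : C k ≅ Red.bc jk T :=
    { hom := BC.up jk (inc k)
      inv := a
      hom_inv_id := by rw [← cancel_mono (c k), Category.assoc, han, hinv, Category.id_comp]
      inv_hom_id := by rw [← cancel_mono ((Over.pullback jk).map n), Category.assoc, hinv, han, Category.id_comp] }
  haveI : IsMonHom e.hom := by
    haveI : IsMonHom (e.hom ≫ (Over.pullback jk).map n) := by rw [show e.hom = BC.up jk (inc k) from rfl, hinv]; infer_instance
    exact SmWeil.MaxTorusBC.isMonHom_of_mono_comp e.hom ((Over.pullback jk).map n)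
  refine (SmWeil.CartanOpen.isCartanOver_iff n jk p).1 ?_
  haveI : IsMonHom ((Over.pullback (Red.geomPt p)).mapIso e).hom :=
    inferInstanceAs (IsMonHom ((Over.pullback (Red.geomPt p)).map e.hom))
  refine SmWeil.CartanAux.isCartanOver_congr (Iso.refl _) ((Over.pullback (Red.geomPt p)).mapIso e)
    (inferInstanceAs (IsMonHom (𝟙 _))) inferInstance ?_ ((hc k).2.2.2 p)
  show _ ≫ 𝟙 _ = _
  rw [Category.comp_id, Functor.mapIso_hom]
  exact (congrArg _ hinv).symm.trans (Functor.map_comp _ _ _)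

/-- **Étale-local existence of Cartan subgroups.** -/
theorem exists_etale_cartan {G : Over S} [GrpObj G] [Smooth G.hom] [QuasiCompact G.hom]
    (hconn : ∀ s : S, _root_.IsConnected (G.hom.base ⁻¹' {s})) {S₁ : Scheme.{u}} (f : S₁ ⟶ S) [Flat f] [Surjective f]
    (hcov : ∀ V : S.Opens, IsAffineOpen V → ∃ W : S₁.Opens, IsCompact (W : Set S₁) ∧ f.base '' (W : Set S₁) = (V : Set S))
    {C : Over S₁} [GrpObj C] {c : C ⟶ Red.bc f G} (hc : SGA3x.IsCartan c) :
    ∃ (S' : Scheme.{u}) (g : S' ⟶ S), Etale g ∧ Surjective g ∧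
      ∃ (C' : Over S') (_ : GrpObj C') (c' : C' ⟶ Red.bc g G), SGA3x.IsCartan c' := by
  haveI := SmWeil.CartanInto.isSeparated_of_connected G hconn
  choose P σ s' hσ hσs C' hC'g c' hc' using fun s : S => exists_cartan_nhd hconn f hcov hc s
  let g : ∐ P ⟶ S := Sigma.desc σ
  have hg : Etale g := by
    haveI : IsZariskiLocalAtSource @Etale.{u} :=
      HasRingHomProperty.instIsZariskiLocalAtSource (P := @Etale) (Q := RingHom.Etale)
    exact IsZariskiLocalAtSource.sigmaDesc hσ
  have hgs : Surjective g := ⟨fun s => ⟨Sigma.ι P s (s' s),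
    (congrArg (fun w : P s ⟶ S => w (s' s)) (Sigma.ι_desc σ s)).trans (hσs s)⟩⟩
  haveI : Smooth (Red.bc g G).hom := MorphismProperty.pullback_snd (P := @Smooth) _ _ inferInstance
  haveI : IsSeparated (Red.bc g G).hom := MorphismProperty.pullback_snd (P := @IsSeparated) _ _ inferInstance
  let e : ∀ s, Red.bc (σ s) G ≅ Red.bc (Sigma.ι P s) (Red.bc g G) := fun s => Tori.BaseChange.overIso
    (Tori.BaseChange.bcCongr (Sigma.ι_desc σ s).symm G ≪≫ Tori.BaseChange.bcComp (Sigma.ι P s) g G)
  haveI he : ∀ s, IsMonHom (e s).hom := fun s => Tori.BaseChange.isMonHom_overIso _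
  obtain ⟨T, gT, n, hn⟩ := exists_glue_cartan (fun s => c' s ≫ (e s).hom) fun s => by
    haveI := (hc' s).1
    haveI := (hc' s).2.1
    refine ⟨inferInstance, mono_comp _ _, (hc' s).2.2.1, fun t => ?_⟩
    haveI : IsMonHom ((Over.pullback (Red.geomPt t)).mapIso (e s)).hom :=
      inferInstanceAs (IsMonHom ((Over.pullback (Red.geomPt t)).map (e s).hom))
    exact SmWeil.CartanAux.isCartanOver_congr ((Over.pullback (Red.geomPt t)).mapIso (e s))
      (Iso.refl _) inferInstance (inferInstanceAs (IsMonHom (𝟙 _))) (by simp [Functor.map_comp]) ((hc' s).2.2.2 t)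
  exact ⟨_, g, hg, hgs, T, gT, n, hn⟩

end Groth.Agent.H13.FinAvg
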