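import Groth.Agent.H13.FinAvg.Exists
import Groth.Agent.Lib.SmWeil.TorusCentConn

/-!
# Transporters of Cartan subgroups and of maximal tori into smooth subgroups
-/

set_option autoImplicit false
set_option linter.style.haveILetI false
set_option linter.unusedSectionVars false
set_option backward.isDefEq.respectTransparency false
set_option synthInstance.maxHeartbeats 200000
set_option maxHeartbeats 1000000

universe u

open CategoryTheory CategoryTheory.Limits AlgebraicGeometry MonoidalCategory CartesianMonoidalCategory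
open CategoryTheory.MonObj CategoryTheory.GrpObj
open Groth.Agent.Lib Groth.Agent.H87 Groth.Agent.H87.HomDS
open Groth.Agent.Lib.RedPts
open Groth.Agent.H13.FinAvg Groth.Agent.H13.FinAvg.Transporter

namespace Groth.Agent.H13.FinAvg

variable {S : Scheme.{u}}

/-- Connected geometric fibres give geometric connectedness. -/
theorem geometricallyConnected_of_geomFibre (H : Over S) [GrpObj H]
    (hH : ∀ s : S, ConnectedSpace ↥(Red.geomFibre s H).left) : GeometricallyConnected H.hom :=
  SmWeil.geometricallyConnected_grp H fun s => by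
    let k := S.residueField s
    let ψ : Spec (CommRingCat.of (AlgebraicClosure k)) ⟶ Spec k :=
      Spec.map (CommRingCat.ofHom (algebraMap k (AlgebraicClosure k)))
    haveI : Surjective ψ := ⟨fun x => ⟨IsLocalRing.closedPoint _,
      @Subsingleton.elim _ (inferInstanceAs (Subsingleton (PrimeSpectrum k))) _ _⟩⟩
    let q : pullback H.hom (Red.geomPt s) ⟶ pullback H.hom (S.fromSpecResidueField s) :=
      pullback.lift (pullback.fst _ _) (pullback.snd _ _ ≫ ψ) (by rw [Category.assoc, pullback.condition])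
    have sq : IsPullback q (pullback.snd H.hom (Red.geomPt s)) (pullback.snd H.hom (S.fromSpecResidueField s)) ψ := by
      refine IsPullback.of_right ?_ (pullback.lift_snd _ _ _) (IsPullback.of_hasPullback H.hom (S.fromSpecResidueField s))
      rw [pullback.lift_fst]
      exact IsPullback.of_hasPullback H.hom (Red.geomPt s)
    haveI : Surjective q := MorphismProperty.of_isPullback sq.flip inferInstance
    haveI : ConnectedSpace ↥(pullback H.hom (Red.geomPt s)) := hH s
    exact q.surjective.connectedSpace q.continuous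

/-- Cartan subgroups have connected fibres. -/
theorem geometricallyConnected_cartan {G C : Over S} [GrpObj G] [GrpObj C] [Smooth G.hom] [QuasiCompact G.hom]
    [GeometricallyConnected G.hom] {c : C ⟶ G} (hc : SGA3x.IsCartan c) : GeometricallyConnected C.hom := by
  refine geometricallyConnected_of_geomFibre C fun s => ?_
  obtain ⟨-, -, T, _, t, ht, hct⟩ := hc.2.2.2 s
  haveI := ht.1
  haveI := ht.2.1
  let b := Red.geomPt s
  haveI : Smooth (Red.bc b G).hom := MorphismProperty.pullback_snd (P := @Smooth) _ _ inferInstance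
  haveI : QuasiCompact (Red.bc b G).hom := MorphismProperty.pullback_snd (P := @QuasiCompact) _ _ inferInstance
  haveI : ConnectedSpace ↥(Red.bc b G).left :=
    GeometricallyConnected.geometrically_connectedSpace _ _ _ (IsPullback.of_hasPullback G.hom b)
  exact (SmWeil.connectedSpace_centralizer ht.2.2.1 t ((Over.pullback b).map c) hct).2.2

/-- **The transporter of a Cartan subgroup is closed and smooth.** -/
theorem exists_transporter_cartan {G H C : Over S} [GrpObj G] [GrpObj H] [GrpObj C] [Smooth G.hom]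
    [QuasiCompact G.hom] (hconn : ∀ s : S, _root_.IsConnected (G.hom.base ⁻¹' {s})) [Smooth H.hom] (i : H ⟶ G)
    [IsMonHom i] [Mono i] {c : C ⟶ G} (hC : SGA3x.IsCartan c) :
    ∃ (M : Over S) (m : M ⟶ G), IsClosedImmersion m.left ∧ Smooth M.hom ∧
      ∀ {X : Over S} (g : X ⟶ G), (∃ z, z ≫ m = g) ↔ Into i c g := by
  haveI := SmWeil.CartanInto.isSeparated_of_connected G hconn
  haveI := SmWeil.CartanOpen.geometricallyConnected_of_fibres G hconn
  haveI := hC.1
  haveI := hC.2.1
  haveI := hC.2.2.1
  haveI : Mono c.left := inferInstanceAs (Mono ((Over.forget S).map c))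
  haveI : IsSeparated C.hom := by rw [← Over.w c]; infer_instance
  haveI := geometricallyConnected_cartan hC
  haveI := SmWeil.lfp_left i
  obtain ⟨M, m, hm, hmfp, hM⟩ := SmWeil.exists_transporter_mono c i
  haveI := hm
  haveI := hmfp
  haveI : Mono m := GrpQ.mono_of_left m
  haveI : LocallyOfFinitePresentation M.hom := by rw [← Over.w m]; infer_instance
  exact ⟨M, m, hm, smooth_transporter_cartan hC hM, hM⟩

/-- Every geometric fibre contains a Cartan subgroup. -/
def HasCartan {G H : Over S} [GrpObj G] [GrpObj H] (i : H ⟶ G) : Prop :=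
  ∀ s : S, ∃ (C' : Over (Spec (CommRingCat.of (AlgebraicClosure (S.residueField s))))) (_ : GrpObj C')
    (c' : C' ⟶ Red.geomFibre s H), SGA3x.IsCartanOver _ (c' ≫ (Over.pullback (Red.geomPt s)).map i)

theorem hasCartan_bc {G H : Over S} [GrpObj G] [GrpObj H] [Smooth G.hom] [IsSeparated G.hom] (i : H ⟶ G)
    {S' : Scheme.{u}} (f : S' ⟶ S) (h : HasCartan i) : HasCartan ((Over.pullback f).map i) := fun s' => by
  obtain ⟨_, hsq⟩ := SmWeil.CartanAux.exists_geom_sq f s'
  obtain ⟨eG, eH, hnat⟩ := SmWeil.MaxTorusBC.exists_transport (Red.geomPt s') f _ (Red.geomPt (f s')) hsq i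
  haveI : Smooth (Red.bc (Red.geomPt (f s')) G).hom := MorphismProperty.pullback_snd (P := @Smooth) _ _ inferInstance
  haveI : IsSeparated (Red.bc (Red.geomPt (f s')) G).hom :=
    MorphismProperty.pullback_snd (P := @IsSeparated) _ _ inferInstance
  obtain ⟨C', _, c', hc'⟩ := h (f s')
  let b := SmWeil.TorusSpec.base (K := AlgebraicClosure (S.residueField (f s'))) (AlgebraicClosure (S'.residueField s'))
  refine ⟨Red.bc b C', inferInstance, (Over.pullback b).map c' ≫ (Tori.BaseChange.overIso eH).inv,
    SmWeil.CartanAux.isCartanOver_congr (Tori.BaseChange.overIso eG).symm (Iso.refl _)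
      (SmWeil.CartanAux.isMonHom_inv _ (Tori.BaseChange.isMonHom_overIso eG)) (inferInstanceAs (IsMonHom (𝟙 _)))
      ?_ (SmWeil.CartanAux.isCartanOver_bc (K' := AlgebraicClosure (S'.residueField s')) hc')⟩
  rw [Iso.symm_hom, Iso.refl_hom, Category.id_comp, Functor.map_comp, Category.assoc, Category.assoc]
  congr 1
  rw [Iso.eq_inv_comp, ← Category.assoc, Iso.comp_inv_eq]
  exact hnat.symm

/-- **A point moving a maximal torus into the subgroup moves its centralizer into it.** -/
theorem into_of_torus {G H T C : Over S} [GrpObj G] [GrpObj H] [GrpObj T] [GrpObj C] [Smooth G.hom]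
    [IsSeparated G.hom] [QuasiCompact G.hom] [Smooth H.hom] (i : H ⟶ G) [IsMonHom i] [Mono i]
    [GeometricallyConnected H.hom] (hHC : HasCartan i) {t : T ⟶ G} (hT : Red.IsMaximalTorus t) {c : C ⟶ G}
    (hc : Red.IsCentralizerOf t c) {X : Over S} (g : X ⟶ G) (h : Into i t g) : Into i c g := by
  let f := X.hom
  let gX := SmWeil.ptUp f (show Over.mk f ⟶ G from g)
  let γX := SmWeil.CartanTorus.conjIso gX
  haveI : IsMonHom γX.hom := SmWeil.CartanTorus.isMonHom_conjIso gX
  haveI : Smooth (Red.bc f G).hom := MorphismProperty.pullback_snd (P := @Smooth) _ _ inferInstance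
  haveI : IsSeparated (Red.bc f G).hom := MorphismProperty.pullback_snd (P := @IsSeparated) _ _ inferInstance
  haveI : QuasiCompact (Red.bc f G).hom := MorphismProperty.pullback_snd (P := @QuasiCompact) _ _ inferInstance
  haveI : Smooth (Red.bc f H).hom := MorphismProperty.pullback_snd (P := @Smooth) _ _ inferInstance
  have hmax : Red.IsMaximalTorus ((Over.pullback f).map t ≫ γX.hom) :=
    SmWeil.CartanAux.isMaximalTorus_congr γX (Iso.refl _) (SmWeil.CartanTorus.isMonHom_conjIso gX)
      (inferInstanceAs (IsMonHom (𝟙 _))) (Category.id_comp _).symm (SmWeil.MaxTorusBC.isMaximalTorus_bc t hT f)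
  obtain ⟨κ, hκ⟩ := h _ ((Over.map f).map (toUnit (Red.bc f T)) ≫ (SmWeil.unitIso f).hom) (BC.down f (𝟙 _))
  let a : Red.bc f T ⟶ Red.bc f H := BC.up f κ
  let iX : Red.bc f H ⟶ Red.bc f G := (Over.pullback f).map i
  haveI : IsMonHom iX := inferInstanceAs (IsMonHom ((Over.pullback f).map i))
  haveI : Mono iX := inferInstanceAs (Mono ((Over.pullback f).map i))
  have he : a ≫ iX = (Over.pullback f).map t ≫ γX.hom := by
    refine BC.down_injective ?_
    rw [SmWeil.CartanTorus.comp_conjIso, BC.down_map, BC.down_up, BC.down_mul, BC.down_mul, BC.down_inv,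
      SmWeil.down_toUnit_ptUp, ← Category.id_comp ((Over.pullback f).map t), BC.down_map]
    refine Eq.trans ?_ hκ.symm |>.trans ?_
    · rfl
    · simp only [Category.assoc]
  haveI := hmax.1
  haveI := hmax.2.1
  haveI : IsMonHom (a ≫ iX) := by rw [he]; infer_instance
  haveI : IsMonHom a := SmWeil.MaxTorusBC.isMonHom_of_mono_comp a iX
  haveI : Mono a := mono_of_mono_fac he
  obtain ⟨D, _, d, hD, -, hDs⟩ := SmWeil.exists_centralizer_torus hmax.2.2.1 a
  haveI := hD.1
  haveI := hD.2.1
  have hcart : SGA3x.IsCartan (d ≫ iX) := by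
    refine ⟨inferInstance, mono_comp _ _, hDs, fun s => ?_⟩
    let b := Red.geomPt s
    let ib := (Over.pullback b).map iX
    haveI : Smooth (Red.bc b (Red.bc f G)).hom := MorphismProperty.pullback_snd (P := @Smooth) _ _ inferInstance
    haveI : Smooth (Red.bc b (Red.bc f H)).hom := MorphismProperty.pullback_snd (P := @Smooth) _ _ inferInstance
    haveI : GeometricallyConnected (Red.bc f H).hom :=
      inferInstanceAs (GeometricallyConnected (pullback.snd H.hom f))
    haveI : ConnectedSpace ↥(Red.bc b (Red.bc f H)).left :=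
      GeometricallyConnected.geometrically_connectedSpace _ _ _ (IsPullback.of_hasPullback (Red.bc f H).hom b)
    have hg := SmWeil.CartanTorus.geomFibre_isMaximalTorus hmax s
    have ha : Red.IsMaximalTorus ((Over.pullback b).map a) :=
      SmWeil.isMaximalTorus_of_maximal _ hg.2.2.1 fun T' _ j _ _ φ hT' hφ =>
        SmWeil.maximal_of_isMaximalTorus hg (j ≫ ib) φ hT' (by
          rw [← Category.assoc, hφ, ← he, Functor.map_comp])
    have hd : SGA3x.IsCartanOver _ ((Over.pullback b).map d) :=
      ⟨inferInstance, inferInstance, _, inferInstance, _, ha,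
        H1.Classical.FieldDescent.isCentralizerOf_bc b hD⟩
    rw [Functor.map_comp]
    exact (SmWeil.CartanSub.isCartanOver_iff ib (hasCartan_bc i f hHC s) ((Over.pullback b).map d)).1 hd
  obtain ⟨a₀, ha₀⟩ := (hD.2.2 _ a).2 fun X' x h => by
    rw [← MonObj.mul_comp, ← MonObj.mul_comp]
    exact congrArg (· ≫ a) (Lib.Tori.Comm.mul_comm_of_isTorus hmax.2.2.1 _ _)
  have hcen := SmWeil.CartanTorus.isCentralizerOf_of_le hcart hmax a₀ (by rw [← he, ← ha₀, Category.assoc])
  have hcX := H1.Classical.FieldDescent.isCentralizerOf_bc f hc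
  intro X' x y
  let Y : Over X.left := Over.mk x.left
  let ε : (Over.map f).obj Y ≅ X' := Over.isoMk (Iso.refl _) (by simpa [Y, f] using (Over.w x).symm)
  let yC : Y ⟶ Red.bc f C := BC.up f (ε.hom ≫ y)
  obtain ⟨z, hz⟩ := (hcen.2.2 Y ((yC ≫ (Over.pullback f).map c) ≫ γX.hom)).2 fun X'' x' h' => by
    have h1 := congrArg (· ≫ γX.hom) ((hcX.2.2 _ (yC ≫ (Over.pullback f).map c)).1 ⟨yC, rfl⟩ X'' x' h')
    simpa only [MonObj.mul_comp, Category.assoc] using h1
  refine ⟨ε.inv ≫ BC.down f (z ≫ d), ?_⟩
  have hx : (Over.map f).map (toUnit Y) ≫ (SmWeil.unitIso f).hom = ε.hom ≫ x := by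
    apply Over.OverMorphism.ext
    simp [ε, SmWeil.unitIso, Y]
  have h1 := congrArg (fun w => ε.inv ≫ BC.down f w) hz
  rw [SmWeil.CartanTorus.comp_conjIso, BC.down_mul, BC.down_mul, BC.down_inv, SmWeil.down_toUnit_ptUp,
    BC.down_map, show BC.down f yC = ε.hom ≫ y from BC.down_up _, reassoc_of% hx] at h1
  simp only [MonObj.comp_mul, GrpObj.comp_inv, Category.assoc, Iso.inv_hom_id_assoc] at h1
  rw [← h1, Category.assoc, ← BC.down_map, Category.assoc]

/-- **The transporter of a Cartan subgroup meets every fibre.** -/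
theorem exists_point_transporter {G H C M : Over S} [GrpObj G] [GrpObj H] [GrpObj C] [Smooth G.hom]
    [QuasiCompact G.hom] {i : H ⟶ G} {c : C ⟶ G} (hc : SGA3x.IsCartan c)
    {m : M ⟶ G} (hM : ∀ {X : Over S} (g : X ⟶ G), (∃ z, z ≫ m = g) ↔ Into i c g) (s : S)
    (hs : ∃ (C' : Over (Spec (CommRingCat.of (AlgebraicClosure (S.residueField s))))) (_ : GrpObj C')
      (c' : C' ⟶ Red.geomFibre s H), SGA3x.IsCartanOver _ (c' ≫ (Over.pullback (Red.geomPt s)).map i)) :
    ∃ p : M.left, M.hom p = s := by
  let b := Red.geomPt s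
  haveI : Smooth (Red.bc b G).hom := MorphismProperty.pullback_snd (P := @Smooth) _ _ inferInstance
  haveI : QuasiCompact (Red.bc b G).hom := MorphismProperty.pullback_snd (P := @QuasiCompact) _ _ inferInstance
  obtain ⟨-, -, U, _, u, hu, hcu⟩ := hc.2.2.2 s
  obtain ⟨C', _, c', -, -, U', _, u', hu', hcu'⟩ := hs
  obtain ⟨g, φ, hφ⟩ := SmWeil.exists_conjBy hu hu'
  rw [← SmWeil.CartanTorus.comp_conjIso] at hφ
  haveI := SmWeil.CartanTorus.isMonHom_conjIso g
  obtain ⟨z, -⟩ := (into_bc hM b g).2 fun X' x y => by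
    obtain ⟨w, hw⟩ := (hcu'.2.2 _ ((y ≫ (Over.pullback b).map c) ≫ (SmWeil.CartanTorus.conjIso g).hom)).2
      fun X'' x' h => by
        have h1 := congrArg (· ≫ (SmWeil.CartanTorus.conjIso g).hom)
          ((hcu.2.2 _ (y ≫ (Over.pullback b).map c)).1 ⟨y, rfl⟩ X'' x' (h ≫ φ.inv))
        simp only [MonObj.mul_comp, Category.assoc, hφ, Iso.inv_hom_id_assoc] at h1
        simpa only [Category.assoc] using h1
    refine ⟨w ≫ c', ?_⟩
    rw [Category.assoc, hw, SmWeil.CartanTorus.comp_conjIso, toUnit_unique x (toUnit X')]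
  let z' : Over.mk b ⟶ M := (SmWeil.unitIso b).inv ≫ BC.down b z
  refine ⟨z'.left (IsLocalRing.closedPoint (AlgebraicClosure (S.residueField s))), ?_⟩
  rw [← Scheme.Hom.comp_apply, Over.w z']
  exact Scheme.fromSpecResidueField_apply s _

/-- The transporter of a Cartan subgroup surjects onto the base. -/
theorem surjective_transporter {G H C M : Over S} [GrpObj G] [GrpObj H] [GrpObj C] [Smooth G.hom]
    [QuasiCompact G.hom] {i : H ⟶ G} (hHC : HasCartan i) {c : C ⟶ G} (hc : SGA3x.IsCartan c)
    {m : M ⟶ G} (hM : ∀ {X : Over S} (g : X ⟶ G), (∃ z, z ≫ m = g) ↔ Into i c g) : Surjective M.hom :=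
  ⟨fun s => exists_point_transporter hc hM s (hHC s)⟩

end Groth.Agent.H13.FinAvg
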